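import Cfsg.Agent.Lib.Solv.PPrimeNilpotent.Facts
import Cfsg.Agent.Lib.LocalEven.SFourInvolved
import Cfsg.Agent.Lib.LocalEven.LargeBasic
import Cfsg.Agent.Lib.Local.FS.GroupFree
import Cfsg.Agent.Lib.Char.ZStar
import Cfsg.Agent.S5237
import Cfsg.Agent.S0205

/-!
# A strongly closed elementary abelian 2-subgroup of rank at least three
-/

set_option autoImplicit false
set_option linter.style.haveILetI false
set_option linter.unusedSectionVars false

namespace Cfsg.Agent.PPrimeNilpotent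

open Cfsg Cfsg.Agent.Fusion

universe u

/-- A minimal counterexample: simple, not solvable, all proper subgroups solvable. -/
structure Ctx (p : ℕ) (G : Type u) [Group G] : Prop where
  prime : p.Prime
  gt : 3 < p
  hyp : Hyp p G
  sub : ∀ H : Subgroup G, H ≠ ⊤ → Group.IsSolvable ↥H
  simple : ∀ N : Subgroup G, N.Normal → N = ⊥ ∨ N = ⊤
  notSolv : ¬ Group.IsSolvable G

/-- An elementary abelian 2-subgroup `E` of a Sylow 2-subgroup `S`, normal in it, whose fusion in
`S` is controlled by its normaliser. -/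
structure Closed {G : Type u} [Group G] (S E : Subgroup G) : Prop where
  syl : SylIn 2 S ⊤
  le : E ≤ S
  comm : ∀ a ∈ E, ∀ b ∈ E, a * b = b * a
  sq : ∀ a ∈ E, a * a = 1
  norm : S ≤ Subgroup.normalizer (E : Set G)
  fusion : ∀ x ∈ E, ∀ g : G, g * x * g⁻¹ ∈ S →
    ∃ h ∈ Subgroup.normalizer (E : Set G), h * x * h⁻¹ = g * x * g⁻¹

variable {G : Type u} [Group G] [Finite G] {p : ℕ}

omit [Finite G] in
theorem Closed.mem {S E : Subgroup G} (c : Closed S E) {x g : G} (hx : x ∈ E) (hg : g * x * g⁻¹ ∈ S) :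
    g * x * g⁻¹ ∈ E := by
  obtain ⟨h, hh, e⟩ := c.fusion x hx g hg
  rw [← e]
  exact (Subgroup.mem_normalizer_iff.1 hh x).1 hx

theorem Closed.isPGroup {S E : Subgroup G} (c : Closed S E) : IsPGroup 2 ↥E :=
  c.syl.isPGroup.to_le c.le

theorem Ctx.coprime_of_two (c : Ctx p G) {H : Subgroup G} (hH : IsPGroup 2 ↥H) :
    (Nat.card ↥H).Coprime p := by
  haveI : Fact (Nat.Prime 2) := ⟨Nat.prime_two⟩
  obtain ⟨k, hk⟩ := IsPGroup.iff_card.1 hH
  rw [hk]
  exact ((Nat.coprime_primes Nat.prime_two c.prime).2 (by have := c.gt; omega)).pow_left k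

/-- An element of order prime to `2p` normalising a 2-subgroup centralises it. -/
theorem Ctx.commute_two (c : Ctx p G) {x : G} {U : Subgroup G} (hU : IsPGroup 2 ↥U)
    (hx : (orderOf x).Coprime p) (hodd : Odd (orderOf x))
    (hn : x ∈ Subgroup.normalizer (U : Set G)) {u : G} (hu : u ∈ U) : Commute x u := by
  haveI : Fact (Nat.Prime 2) := ⟨Nat.prime_two⟩
  refine c.hyp.commute hx (c.coprime_of_two hU) ?_ hn hu
  obtain ⟨k, hk⟩ := IsPGroup.iff_card.1 hU
  rw [hk]
  exact (Nat.coprime_two_left.2 hodd).pow_left k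

theorem Ctx.commute_three (c : Ctx p G) {x : G} {U : Subgroup G} (hU : IsPGroup 2 ↥U) {k : ℕ}
    (hx : x ^ 3 ^ k = 1)
    (hn : x ∈ Subgroup.normalizer (U : Set G)) {u : G} (hu : u ∈ U) : Commute x u := by
  have hd := orderOf_dvd_of_pow_eq_one hx
  refine c.commute_two hU ?_ ((Odd.pow (by decide : Odd 3)).of_dvd_nat hd) hn hu
  exact (((Nat.coprime_primes Nat.prime_three c.prime).2 (by have := c.gt; omega)).pow_left k).coprime_dvd_left hd

theorem Ctx.sfour_free (c : Ctx p G) : ¬ Involves (Equiv.Perm (Fin 4)) G := by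
  intro h
  obtain ⟨T, hT, h3⟩ := LocalEven.SFour.automizer_of_involves h
  obtain ⟨b, y, -, hy1, hy3, -⟩ := LocalEven.SFour.exists_inverted_three h3
  obtain ⟨n, rfl⟩ := QuotientGroup.mk_surjective y
  obtain ⟨k, m, hm, hkm⟩ :=
    Nat.exists_eq_pow_mul_and_not_dvd (orderOf_pos (n : G)).ne' 3 (by norm_num)
  have hpow : ((n : G) ^ m) ^ 3 ^ k = 1 := by rw [← pow_mul, mul_comm, ← hkm, pow_orderOf_eq_one]
  have hnm : n ^ m ∈ (Subgroup.centralizer (T : Set G)).subgroupOf (Subgroup.normalizer (T : Set G)) := by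
    rw [Subgroup.mem_subgroupOf, Subgroup.mem_centralizer_iff]
    intro t ht
    exact (c.commute_three hT (k := k) hpow (pow_mem n.2 m) ht).eq.symm
  rw [← QuotientGroup.eq_one_iff, QuotientGroup.mk_pow] at hnm
  refine hy1 (orderOf_eq_one_iff.1 (Nat.eq_one_of_dvd_coprimes
    ((Nat.prime_three.coprime_iff_not_dvd).2 hm) (orderOf_dvd_of_pow_eq_one hy3)
    (orderOf_dvd_of_pow_eq_one hnm)))

theorem Ctx.center_eq_bot (c : Ctx p G) : Subgroup.center G = ⊥ := by
  refine (c.simple _ inferInstance).resolve_right fun h => c.notSolv (Group.isSolvable_of_comm fun a b => ?_)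
  exact (Subgroup.mem_center_iff.1 (h ▸ Subgroup.mem_top b) a)

theorem Ctx.centralizer_ne_top (c : Ctx p G) {x : G} (hx : x ≠ 1) :
    Subgroup.centralizer ({x} : Set G) ≠ ⊤ := by
  intro h
  refine hx (Subgroup.mem_bot.1 (c.center_eq_bot ▸ Subgroup.mem_center_iff.2 fun g => ?_))
  exact Subgroup.mem_centralizer_singleton_iff.1 (h ▸ Subgroup.mem_top g)

theorem Ctx.normalizer_ne_top (c : Ctx p G) {H : Subgroup G} (h1 : H ≠ ⊥) (h2 : H ≠ ⊤) :
    Subgroup.normalizer (H : Set G) ≠ ⊤ := fun h =>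
  (c.simple H (Subgroup.normalizer_eq_top_iff.1 h)).elim h1 h2

theorem Ctx.oddCore_eq_bot (c : Ctx p G) : oddCore G = ⊥ := by
  refine (c.simple _ (Solv.pPrimeCore_normal 2)).resolve_right fun h => c.notSolv ?_
  have h1 := Solv.pPrimeCore_coprime (G := G) 2
  rw [show pPrimeCore 2 G = ⊤ from h, Subgroup.card_top] at h1
  exact Cfsg.Agent.S0205.result (Nat.coprime_two_right.1 h1)

theorem Ctx.even_card (c : Ctx p G) : Even (Nat.card G) := by
  rw [← Nat.not_odd_iff_even]
  exact fun h => c.notSolv (Cfsg.Agent.S0205.result h)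

theorem Ctx.ne_top_of_two (c : Ctx p G) {H : Subgroup G} (hH : IsPGroup 2 ↥H) : H ≠ ⊤ := by
  rintro rfl
  haveI : Fact (Nat.Prime 2) := ⟨Nat.prime_two⟩
  haveI := hH.isNilpotent
  exact c.notSolv (Group.isSolvable_of_surjective (f := (Subgroup.topEquiv (G := G)).toMonoidHom)
    (Subgroup.topEquiv (G := G)).surjective)

/-- The fusion system gives a nontrivial closed elementary abelian subgroup. -/
theorem Ctx.exists_closed (c : Ctx p G) : ∃ S E : Subgroup G, Closed S E ∧ E ≠ ⊥ := by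
  haveI : Fact (Nat.Prime 2) := ⟨Nat.prime_two⟩
  obtain ⟨P⟩ : Nonempty (Sylow 2 G) := inferInstance
  have hS := sylIn_top P
  have hP1 : (P : Subgroup G) ≠ ⊥ := P.ne_bot_of_dvd_card c.even_card.two_dvd
  obtain ⟨W, hWS, hW1, hWc, hWn⟩ := Cfsg.Agent.S5237.result P.isPGroup' hP1
  have hN := hWn (groupFusionSystem (P : Subgroup G)) (Local.FS.group_saturated hS)
    (Local.FS.group_sectionFree hS c.sfour_free)
  let E : Subgroup G :=
    { carrier := {x | x ∈ W ∧ x * x = 1 ∧ ∀ w ∈ W, w * x = x * w}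
      one_mem' := ⟨W.one_mem, mul_one 1, fun w _ => by rw [mul_one, one_mul]⟩
      mul_mem' := by
        rintro a b ⟨ha, ha2, hac⟩ ⟨hb, hb2, hbc⟩
        refine ⟨W.mul_mem ha hb, ?_, fun w hw => ?_⟩
        · have hab : b * a = a * b := hac b hb
          calc a * b * (a * b) = a * (b * a) * b := by group
            _ = a * (a * b) * b := by rw [hab]
            _ = (a * a) * (b * b) := by group
            _ = 1 := by rw [ha2, hb2, one_mul]
        · rw [← mul_assoc, hac w hw, mul_assoc, hbc w hw, mul_assoc]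
      inv_mem' := by
        rintro a ⟨ha, ha2, hac⟩
        rw [Set.mem_ofPred_eq, inv_eq_of_mul_eq_one_left ha2]
        exact ⟨ha, ha2, hac⟩ }
  have hnWE : Subgroup.normalizer (W : Set G) ≤ Subgroup.normalizer (E : Set G) := by
    intro g hg
    refine mem_normalizer_of_cj_le ?_
    rintro _ ⟨x, ⟨hxW, hx2, hxc⟩, rfl⟩
    refine ⟨(Subgroup.mem_normalizer_iff.1 hg x).1 hxW, ?_, fun w hw => ?_⟩
    · show g * x * g⁻¹ * (g * x * g⁻¹) = 1
      rw [show g * x * g⁻¹ * (g * x * g⁻¹) = g * (x * x) * g⁻¹ by group, hx2, mul_one, mul_inv_cancel]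
    · show w * (g * x * g⁻¹) = g * x * g⁻¹ * w
      have hw' : g⁻¹ * w * g ∈ W := by
        have := (Subgroup.mem_normalizer_iff.1 (inv_mem hg) w).1 hw
        rwa [inv_inv] at this
      calc w * (g * x * g⁻¹) = g * ((g⁻¹ * w * g) * x) * g⁻¹ := by group
        _ = g * (x * (g⁻¹ * w * g)) * g⁻¹ := by rw [hxc _ hw']
        _ = g * x * g⁻¹ * w := by group
  have hSW : (P : Subgroup G) ≤ Subgroup.normalizer (W : Set G) :=
    (Subgroup.normal_subgroupOf_iff_le_normalizer hWS).1 inferInstance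
  refine ⟨P, E, ⟨hS, fun x hx => hWS hx.1, fun a ha b hb => hb.2.2 a ha.1, fun a ha => ha.2.1,
    hSW.trans hnWE, ?_⟩, ?_⟩
  · intro x hx g hg
    set φ := conjHom (Subgroup.zpowers x) g with hφ
    have hφm : φ ∈ (groupFusionSystem (P : Subgroup G)).Hom (Subgroup.zpowers x) := by
      refine ⟨Subgroup.zpowers_le.2 (hWS hx.1), ?_, g, fun y => rfl⟩
      rintro ⟨y, hy⟩
      obtain ⟨i, rfl⟩ := Subgroup.mem_zpowers_iff.1 hy
      show g * x ^ i * g⁻¹ ∈ (P : Subgroup G)
      rw [← conj_zpow]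
      exact zpow_mem hg i
    obtain ⟨ψ, ⟨-, -, h, hh⟩, hψ1, hψ2⟩ := hN.2 _ φ hφm
    refine ⟨h, hnWE (mem_normalizer_of_cj_le ?_), ?_⟩
    · rintro _ ⟨w, hw, rfl⟩
      rw [← hψ2]
      exact ⟨⟨w, Subgroup.mem_sup_right hw⟩, hw, hh _⟩
    · have h1 := hψ1 ⟨x, Subgroup.mem_zpowers x⟩
      rw [hh] at h1
      exact h1
  · intro hE
    haveI : Nontrivial ↥W := (Subgroup.nontrivial_iff_ne_bot W).2 hW1
    have hW2 : IsPGroup 2 ↥W := P.isPGroup'.to_le hWS
    haveI := hW2.center_nontrivial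
    obtain ⟨z, hz⟩ := exists_prime_orderOf_dvd_card' (G := ↥(Subgroup.center ↥W)) 2 (by
      obtain ⟨k, hk⟩ := IsPGroup.iff_card.1 (hW2.to_subgroup (Subgroup.center ↥W))
      rw [hk]
      refine dvd_pow_self 2 fun h0 => ?_
      rw [h0, pow_zero] at hk
      exact absurd (Nat.card_eq_one_iff_unique.1 hk).1 (not_subsingleton _))
    have hzE : ((z : ↥W) : G) ∈ E := by
      refine ⟨(z : ↥W).2, ?_, fun w hw => ?_⟩
      · have h2 := pow_orderOf_eq_one z
        rw [hz, pow_two] at h2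
        exact congrArg (fun v : ↥(Subgroup.center ↥W) => ((v : ↥W) : G)) h2
      · exact congrArg Subtype.val (Subgroup.mem_center_iff.1 z.2 ⟨w, hw⟩)
    rw [hE, Subgroup.mem_bot] at hzE
    rw [show z = 1 from Subtype.ext (Subtype.ext hzE), orderOf_one] at hz
    norm_num at hz

/-- The closed subgroup has order at least eight. -/
theorem Ctx.closed_card (c : Ctx p G) {S E : Subgroup G} (hc : Closed S E) (hE : E ≠ ⊥) :
    8 ≤ Nat.card ↥E := by
  haveI : Fact (Nat.Prime 2) := ⟨Nat.prime_two⟩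
  obtain ⟨k, hk⟩ := IsPGroup.iff_card.1 hc.isPGroup
  by_contra hlt
  have hk4 : Nat.card ↥E ≤ 4 := by
    rw [hk] at hlt ⊢
    have : k < 3 := (Nat.pow_lt_pow_iff_right (a := 2) (by norm_num)).1 (by rw [not_le] at hlt; exact hlt)
    exact le_trans (Nat.pow_le_pow_right (by norm_num) (Nat.le_of_lt_succ this)) le_rfl
  haveI : (E.subgroupOf S).Normal :=
    (Subgroup.normal_subgroupOf_iff_le_normalizer hc.le).2 hc.norm
  obtain ⟨z, hz, hz1⟩ := Subgroup.ne_bot_iff_exists_ne_one.1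
    (LocalEven.Large.normal_inf_center hc.syl.isPGroup (E.subgroupOf S)
      (fun h => hE (Subgroup.subgroupOf_eq_bot.1 h |>.eq_bot_of_le hc.le)))
    |> fun ⟨v, hv⟩ => (⟨v.1, v.2, fun e => hv (Subtype.ext e)⟩ :
      ∃ z : ↥S, z ∈ E.subgroupOf S ⊓ Subgroup.center ↥S ∧ z ≠ 1)
  set t : G := (z : G) with ht
  have htE : t ∈ E := hz.1
  have ht1 : t ≠ 1 := fun e => hz1 (Subtype.ext e)
  have htS : ∀ s ∈ S, s * t = t * s := fun s hs =>
    congrArg Subtype.val (Subgroup.mem_center_iff.1 hz.2 ⟨s, hs⟩)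
  set N := Subgroup.normalizer (E : Set G) with hN
  set K := (Subgroup.centralizer ({t} : Set G)).subgroupOf N with hK
  have hidx : K.index < Nat.card ↥E := by
    let f : ↥N ⧸ K → {e : ↥E // e ≠ 1} := fun q => Quotient.liftOn' q
      (fun n => ⟨⟨(n : G) * t * (n : G)⁻¹, (Subgroup.mem_normalizer_iff.1 n.2 t).1 htE⟩,
        fun e => ht1 (conj_eq_one_iff.1 (congrArg Subtype.val e))⟩)
      (fun a b hab => by
        rw [QuotientGroup.leftRel_apply, hK, Subgroup.mem_subgroupOf,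
          Subgroup.mem_centralizer_singleton_iff] at hab
        refine Subtype.ext (Subtype.ext ?_)
        show (a : G) * t * (a : G)⁻¹ = (b : G) * t * (b : G)⁻¹
        have hab' : (a : G)⁻¹ * b * t = t * ((a : G)⁻¹ * b) := by simpa using hab
        calc (a : G) * t * (a : G)⁻¹ = a * (t * ((a : G)⁻¹ * b)) * (b : G)⁻¹ := by group
          _ = a * ((a : G)⁻¹ * b * t) * (b : G)⁻¹ := by rw [hab']
          _ = (b : G) * t * (b : G)⁻¹ := by group)
    have hf : Function.Injective f := by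
      rintro q r hqr
      induction q using Quotient.inductionOn' with
      | h a =>
        induction r using Quotient.inductionOn' with
        | h b =>
          have e : (a : G) * t * (a : G)⁻¹ = (b : G) * t * (b : G)⁻¹ :=
            congrArg (fun v : {e : ↥E // e ≠ 1} => ((v : ↥E) : G)) hqr
          refine Quotient.sound' ?_
          rw [QuotientGroup.leftRel_apply, hK, Subgroup.mem_subgroupOf,
            Subgroup.mem_centralizer_singleton_iff]
          show (a : G)⁻¹ * b * t = t * ((a : G)⁻¹ * b)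
          calc (a : G)⁻¹ * b * t = (a : G)⁻¹ * ((b : G) * t * (b : G)⁻¹) * b := by group
            _ = (a : G)⁻¹ * ((a : G) * t * (a : G)⁻¹) * b := by rw [e]
            _ = t * ((a : G)⁻¹ * b) := by group
    refine lt_of_le_of_lt (Nat.card_le_card_of_injective f hf) ?_
    haveI := Fintype.ofFinite ↥E
    classical
    rw [Nat.card_eq_fintype_card, Nat.card_eq_fintype_card]
    exact Fintype.card_subtype_lt (x := (1 : ↥E)) (fun h => h rfl)
  have hSN : S ≤ N := hc.norm
  have h2 : ¬ 2 ∣ K.index := fun hd => by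
    have hSK : S.subgroupOf N ≤ K := fun n hn =>
      Subgroup.mem_centralizer_singleton_iff.2 (htS _ hn)
    exact (hc.syl.mono hSN le_top).not_dvd (hd.trans (Subgroup.index_dvd_of_le hSK))
  have h3 : ¬ 3 ∣ K.index := fun hd => by
    haveI : Fact (Nat.Prime 3) := ⟨Nat.prime_three⟩
    obtain ⟨Q⟩ : Nonempty (Sylow 3 ↥N) := inferInstance
    refine Q.not_dvd_index (hd.trans (Subgroup.index_dvd_of_le fun n hn => ?_))
    obtain ⟨j, hj⟩ := Q.isPGroup' ⟨n, hn⟩
    refine Subgroup.mem_centralizer_singleton_iff.2 ?_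
    exact (c.commute_three hc.isPGroup (k := j)
      (congrArg (fun v : ↥(Q : Subgroup ↥N) => ((v : ↥N) : G)) hj) n.2 htE).eq
  have hone : K.index = 1 := by
    have h0 : K.index ≠ 0 := Subgroup.index_ne_zero_of_finite
    omega
  have hcent : ∀ n ∈ N, n * t * n⁻¹ = t := fun n hn => by
    have : (⟨n, hn⟩ : ↥N) ∈ K := by rw [Subgroup.index_eq_one.1 hone]; exact Subgroup.mem_top _
    rw [mul_inv_eq_iff_eq_mul]
    exact Subgroup.mem_centralizer_singleton_iff.1 this
  obtain ⟨P, hP⟩ := hc.syl.exists_sylow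
  have hto : orderOf t = 2 := orderOf_eq_prime (by rw [pow_two]; exact hc.sq t htE) ht1
  have hodd := Char.oddInvol_of_isolated_sylow hto (P := P)
    (by rw [show t ∈ P ↔ t ∈ (P : Subgroup G) from Iff.rfl, hP]; exact hc.le htE)
    (fun g hg => by
      rw [show g * t * g⁻¹ ∈ P ↔ g * t * g⁻¹ ∈ (P : Subgroup G) from Iff.rfl, hP] at hg
      obtain ⟨n, hn, e⟩ := hc.fusion t htE g hg
      rw [← e, hcent n hn])
  refine c.centralizer_ne_top ht1 (eq_top_iff.2 fun g _ => ?_)
  exact Subgroup.mem_centralizer_singleton_iff.2 (Char.zStar_central hodd c.oddCore_eq_bot g).symm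

end Cfsg.Agent.PPrimeNilpotent
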