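import Cfsg.Agent.Lib.Solv.PPrimeNilpotent.Sylow

/-!
# The permutation action on the cosets of the strongly embedded subgroup
-/

set_option autoImplicit false
set_option linter.style.haveILetI false
set_option linter.unusedSectionVars false

namespace Cfsg.Agent.PPrimeNilpotent

open Cfsg Cfsg.Agent.Fusion

universe u

variable {G : Type u} [Group G] [Finite G] {H : Subgroup G}

theorem card_fix_eq (hse : IsStronglyEmbedded H) (x y : G ⧸ H) :
    Nat.card {t : G // orderOf t = 2 ∧ t • x = x} = Nat.card {t : G // orderOf t = 2 ∧ t • y = y} := by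
  by_cases h : x = y
  · subst h; rfl
  rw [← SEPairs.card_swappers hse h, ← SEPairs.card_swappers hse (Ne.symm h)]
  refine Nat.card_congr (Equiv.subtypeEquivRight fun i => and_congr_right fun hi => ?_)
  constructor
  · intro e; rw [← e, smul_smul, SEPairs.sq_one hi, one_smul]
  · intro e; rw [← e, smul_smul, SEPairs.sq_one hi, one_smul]

/-- With an involution `t` fixing `a` there is an involution `u` such that `t * u` has odd order and
fixes no point. -/
theorem exists_free (hse : IsStronglyEmbedded H) {t : G} (ht : orderOf t = 2) {a : G ⧸ H}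
    (hta : t • a = a) :
    ∃ u : G, orderOf u = 2 ∧ Odd (orderOf (t * u)) ∧ ∀ c : G ⧸ H, (t * u) • c ≠ c := by
  classical
  set m := Nat.card {v : G // orderOf v = 2 ∧ v • a = a}
  haveI : Nonempty {v : G // orderOf v = 2 ∧ v • a = a} := ⟨⟨t, ht, hta⟩⟩
  have hm : 0 < m := Nat.card_pos
  obtain ⟨y, hy⟩ := SEPairs.exists_ne hse a
  haveI : Nonempty {c : G ⧸ H // c ≠ a} := ⟨⟨y, hy⟩⟩
  haveI := Fintype.ofFinite (G ⧸ H)
  let P := Σ c : {c : G ⧸ H // c ≠ a}, {v : G // orderOf v = 2 ∧ v • (c : G ⧸ H) = t • (c : G ⧸ H)}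
  let T := Σ c : {c : G ⧸ H // c ≠ a}, {v : G // orderOf v = 2 ∧ v • (c : G ⧸ H) = c}
  have hmove : ∀ c : G ⧸ H, c ≠ a → t • c ≠ c := fun c hc e =>
    hc (SEPairs.fixed_unique hse ht e hta)
  have hP : Nat.card P = Nat.card {c : G ⧸ H // c ≠ a} * m := by
    rw [Nat.card_sigma, Finset.sum_congr rfl (g := fun _ => m) fun c _ => by
      rw [SEPairs.card_swappers hse (Ne.symm (hmove c c.2)), card_fix_eq hse (c : G ⧸ H) a],
      Finset.sum_const, Finset.card_univ, smul_eq_mul, Nat.card_eq_fintype_card]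
  have hT : Nat.card T = Nat.card {c : G ⧸ H // c ≠ a} * m := by
    rw [Nat.card_sigma, Finset.sum_const_nat (m := m) (fun (c : {c : G ⧸ H // c ≠ a}) _ => card_fix_eq hse (c : G ⧸ H) a),
      Finset.card_univ, Nat.card_eq_fintype_card]
  have hpos : 0 < Nat.card T := by rw [hT]; exact Nat.mul_pos Nat.card_pos hm
  by_contra hall
  push Not at hall
  let M := {u : G // orderOf u = 2 ∧ u • a ≠ a}
  have hTM : Nat.card T ≤ Nat.card M := by
    refine Nat.card_le_card_of_injective (fun z : T => (⟨z.2.1, z.2.2.1, fun e => z.1.2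
      (SEPairs.fixed_unique hse z.2.2.1 z.2.2.2 e)⟩ : M)) ?_
    rintro ⟨⟨c, hc⟩, ⟨v, hv, hvc⟩⟩ ⟨⟨d, hd⟩, ⟨w, hw, hwd⟩⟩ e
    obtain rfl : v = w := congrArg (fun z : M => (z : G)) e
    obtain rfl : c = d := SEPairs.fixed_unique hse hv hvc hwd
    rfl
  have hbad : ∀ u : M, ∃ c : G ⧸ H, c ≠ a ∧ (u : G) • c = t • c := by
    intro u
    obtain ⟨c, hc⟩ := hall u u.2.1 (SEPairs.odd_of_fixed_ne hse ht u.2.1 hta u.2.2)
    have h1 : (u : G) • c = t • c := by
      have := congrArg (fun z => t • z) hc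
      rwa [smul_smul, ← mul_assoc, SEPairs.sq_one ht, one_mul] at this
    refine ⟨c, fun e => u.2.2 ?_, h1⟩
    rw [e, hta] at h1
    exact h1
  choose c hca hcu using hbad
  let f : M ⊕ M → P := Sum.elim
    (fun u => ⟨⟨c u, hca u⟩, ⟨u, u.2.1, hcu u⟩⟩)
    (fun u => ⟨⟨t • c u, fun e => hca u (smul_left_cancel t (e.trans hta.symm))⟩, ⟨u, u.2.1, by
      show (u : G) • t • c u = t • t • c u
      rw [smul_smul t t, SEPairs.sq_one ht, one_smul, ← hcu u, smul_smul, SEPairs.sq_one u.2.1, one_smul]⟩⟩)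
  have hf : Function.Injective f := by
    have key : ∀ z w : P, z = w → (z.1 : G ⧸ H) = w.1 ∧ (z.2 : G) = w.2 := by
      rintro z w rfl; exact ⟨rfl, rfl⟩
    rintro (u | u) (w | w) e
    · exact congrArg _ (Subtype.ext (key _ _ e).2)
    · obtain ⟨e1, e2⟩ := key _ _ e
      obtain rfl : u = w := Subtype.ext e2
      exact absurd e1.symm (hmove _ (hca u))
    · obtain ⟨e1, e2⟩ := key _ _ e
      obtain rfl : u = w := Subtype.ext e2
      exact absurd e1 (hmove _ (hca u))
    · exact congrArg _ (Subtype.ext (key _ _ e).2)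
  have h2 := Nat.card_le_card_of_injective f hf
  rw [Nat.card_sum, hP] at h2
  omega

variable {p : ℕ} {S E : Subgroup G}

/-- `p` divides the number of cosets. -/
theorem Ctx.dvd_index (c : Ctx p G) (hc : Closed S E) (h8 : 8 ≤ Nat.card ↥E) :
    p ∣ Nat.card (G ⧸ local2 E) := by
  haveI : Fact p.Prime := ⟨c.prime⟩
  have hse := c.local2_embedded hc h8
  obtain ⟨t, a, ht, hta⟩ := SEPairs.exists_fixed_involution hse
  obtain ⟨u, hu, hodd, hfree⟩ := exists_free hse ht hta
  set y := t * u with hy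
  have hflip : t * y * t⁻¹ = y⁻¹ := by
    rw [hy, mul_inv_rev, SEPairs.inv_self ht, SEPairs.inv_self hu, ← mul_assoc, SEPairs.sq_one ht, one_mul]
  have hp' : ∀ r : ℕ, r.Prime → r ∣ orderOf y → r = p := by
    intro r hr hrd
    by_contra hrp
    have hr2 : r ≠ 2 := fun e => Nat.not_even_iff_odd.2 hodd (even_iff_two_dvd.2 (e ▸ hrd))
    obtain ⟨k, hk⟩ := hrd
    have hk0 : k ≠ 0 := fun e => (orderOf_pos y).ne' (by rw [hk, e, mul_zero])
    set z := y ^ k with hz
    have hzo : orderOf z = r := by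
      rw [hz, orderOf_pow_of_dvd hk0 (Dvd.intro_left r hk.symm), hk, Nat.mul_div_cancel _ (Nat.pos_of_ne_zero hk0)]
    have hzflip : t * z * t⁻¹ = z⁻¹ := by rw [hz, ← conj_pow, hflip, inv_pow]
    have hn : t ∈ Subgroup.normalizer ((Subgroup.zpowers z : Subgroup G) : Set G) :=
      mem_normalizer_of_cj_le (by
        rw [cj, MonoidHom.map_zpowers]
        exact Subgroup.zpowers_le.2 (by
          show t * z * t⁻¹ ∈ _
          rw [hzflip]; exact inv_mem (Subgroup.mem_zpowers z)))
    have hcomm := c.hyp.commute (x := t) (U := Subgroup.zpowers z)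
      (by rw [ht]; exact (Nat.coprime_primes Nat.prime_two c.prime).2 (by have := c.gt; omega))
      (by rw [Nat.card_zpowers, hzo]; exact (Nat.coprime_primes hr c.prime).2 hrp)
      (by rw [Nat.card_zpowers, hzo, ht]; exact (Nat.coprime_primes hr Nat.prime_two).2 hr2)
      hn (Subgroup.mem_zpowers z)
    rw [hcomm.eq, mul_inv_cancel_right] at hzflip
    have h2 : z ^ 2 = 1 := by rw [pow_two]; nth_rewrite 2 [hzflip]; exact mul_inv_cancel z
    have := orderOf_dvd_of_pow_eq_one h2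
    rw [hzo] at this
    exact hr2 ((Nat.prime_dvd_prime_iff_eq hr Nat.prime_two).1 this)
  have hyp' : IsPGroup p ↥(Subgroup.zpowers y) := by
    refine IsPGroup.of_card (n := (orderOf y).primeFactorsList.length) ?_
    rw [Nat.card_zpowers]
    exact Nat.eq_prime_pow_of_unique_prime_dvd (orderOf_pos y).ne' fun {d} hd hdd => hp' d hd hdd
  have hfix : IsEmpty (MulAction.fixedPoints ↥(Subgroup.zpowers y) (G ⧸ local2 E)) :=
    ⟨fun x => hfree x.1 (x.2 ⟨y, Subgroup.mem_zpowers y⟩)⟩
  have := hyp'.card_modEq_card_fixedPoints (G ⧸ local2 E)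
  rw [Nat.card_of_isEmpty (α := MulAction.fixedPoints ↥(Subgroup.zpowers y) (G ⧸ local2 E))] at this
  exact Nat.modEq_zero_iff_dvd.1 this

end Cfsg.Agent.PPrimeNilpotent
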