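import Cfsg.Agent.Lib.Fusion.SolvableBalance
import Mathlib

/-!
# Abelian strongly closed 2-subgroups of solvable groups
-/

set_option autoImplicit false
set_option linter.style.haveILetI false

namespace Cfsg.Agent.PPrimeNilpotent

open Cfsg Cfsg.Agent.Fusion
open scoped Pointwise

universe u

section free

variable {X : Type u} [Group X] [Finite X]

/-- An abelian strongly closed 2-subgroup of a solvable group with trivial odd core is normal. -/
theorem closed_normal_of_core_bot (hs : Group.IsSolvable X) (h0 : pPrimeCore 2 X = ⊥)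
    (T : Sylow 2 X) {A : Subgroup X} (hA : A ≤ (T : Subgroup X))
    (hAc : ∀ a ∈ A, ∀ b ∈ A, a * b = b * a)
    (hcl : ∀ g : X, ∀ a ∈ A, g * a * g⁻¹ ∈ (T : Subgroup X) → g * a * g⁻¹ ∈ A) : A.Normal := by
  set Q := pCore 2 X with hQ
  have hQn : Q.Normal := Solv.pCore_normal 2
  have hQp : IsPGroup 2 Q := Solv.pCore_isPGroup 2
  have hQT : Q ≤ (T : Subgroup X) := Fusion.pCore_le_sylow T
  set A0 := A ⊓ Q with hA0
  haveI hA0n : A0.Normal := ⟨fun a ha g => ⟨hcl g a ha.1 (hQT (hQn.conj_mem a ha.2 g)),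
    hQn.conj_mem a ha.2 g⟩⟩
  set π := QuotientGroup.mk' A0 with hπ
  set C1 := (Subgroup.centralizer ((Q.map π : Subgroup _) : Set (X ⧸ A0))).comap π with hC1
  haveI : (Q.map π).Normal := hQn.map π (QuotientGroup.mk'_surjective A0)
  set N0 := Subgroup.normalClosure (A : Set X) with hN0
  have hAC1 : A ≤ C1 := by
    intro a ha
    rw [hC1, Subgroup.mem_comap, Subgroup.mem_centralizer_iff]
    rintro _ ⟨q, hq, rfl⟩
    rw [← map_mul, ← map_mul]
    refine (QuotientGroup.eq.2 ?_ : ((q * a : X) : X ⧸ A0) = ((a * q : X) : X ⧸ A0))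
    have h1 : a⁻¹ * (q⁻¹ * a * q) ∈ A0 := by
      refine Subgroup.mem_inf.2 ⟨A.mul_mem (A.inv_mem ha) ?_, ?_⟩
      · have := hcl q⁻¹ a ha (by
          rw [inv_inv]
          exact mul_mem (mul_mem (inv_mem (hQT hq)) (hA ha)) (hQT hq))
        rwa [inv_inv] at this
      · rw [show a⁻¹ * (q⁻¹ * a * q) = (a⁻¹ * q⁻¹ * a⁻¹⁻¹) * q by group]
        exact mul_mem (hQn.conj_mem _ (inv_mem hq) _) hq
    rw [show (q * a)⁻¹ * (a * q) = a⁻¹ * (q⁻¹ * a * q) by group]
    exact h1
  have hN1 : N0 ≤ C1 := Subgroup.normalClosure_le_normal hAC1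
  have hN2 : N0 ≤ Subgroup.centralizer (A0 : Set X) := Subgroup.normalClosure_le_normal fun a ha =>
    Subgroup.mem_centralizer_iff.2 fun b hb => hAc b hb.1 a ha
  have hodd : ∀ x ∈ N0, Odd (orderOf x) → x = 1 := by
    intro x hx ho
    have hxQ : x ∈ Q := by
      refine centralizer_pCore_le_of_solvable hs h0 (Subgroup.mem_centralizer_iff.2 fun q hq => ?_)
      set c := x * q * x⁻¹ * q⁻¹ with hc
      have hcA : c ∈ A0 := by
        rw [← QuotientGroup.eq_one_iff]
        have h1 := Subgroup.mem_centralizer_iff.1 (hN1 hx) (π q) (Subgroup.mem_map_of_mem π hq)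
        show π c = 1
        rw [hc, map_mul, map_mul, map_mul, map_inv, map_inv, ← h1]
        group
      have hxc : x * c = c * x := (Subgroup.mem_centralizer_iff.1 (hN2 hx) c hcA).symm
      have hpow : ∀ n : ℕ, x ^ n * q * (x ^ n)⁻¹ = c ^ n * q := by
        intro n
        induction n with
        | zero => simp
        | succ n ih =>
          have hxq : x * q * x⁻¹ = c * q := by rw [hc]; group
          have hcn : x * c ^ n * x⁻¹ = c ^ n := by
            rw [mul_inv_eq_iff_eq_mul]; exact (Commute.pow_right hxc n).eq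
          calc x ^ (n + 1) * q * (x ^ (n + 1))⁻¹ = x * (x ^ n * q * (x ^ n)⁻¹) * x⁻¹ := by
                rw [pow_succ', mul_inv_rev]; group
            _ = (x * c ^ n * x⁻¹) * (x * q * x⁻¹) := by rw [ih]; group
            _ = c ^ (n + 1) * q := by rw [hcn, hxq, pow_succ, ← mul_assoc]
      have hcn : c ^ orderOf x = 1 := by
        have h := hpow (orderOf x)
        rw [pow_orderOf_eq_one, one_mul, inv_one, mul_one] at h
        exact mul_eq_right.1 h.symm
      obtain ⟨k, hk⟩ := hQp ⟨c, hcA.2⟩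
      have hck : c ^ 2 ^ k = 1 := congrArg Subtype.val hk
      have hc1 : c = 1 := orderOf_eq_one_iff.1 (Nat.eq_one_of_dvd_coprimes
        ((Nat.coprime_two_right.2 ho).pow_right k) (orderOf_dvd_of_pow_eq_one hcn)
        (orderOf_dvd_of_pow_eq_one hck))
      rw [hc, mul_inv_eq_one, mul_inv_eq_iff_eq_mul] at hc1
      exact hc1.symm
    obtain ⟨k, hk⟩ := hQp ⟨x, hxQ⟩
    have hxk : x ^ 2 ^ k = 1 := congrArg Subtype.val hk
    exact orderOf_eq_one_iff.1 (Nat.eq_one_of_dvd_coprimes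
      ((Nat.coprime_two_right.2 ho).pow_right k) dvd_rfl (orderOf_dvd_of_pow_eq_one hxk))
  have hN0p : IsPGroup 2 N0 := by
    intro x
    obtain ⟨k, m, hm, hkm⟩ := Nat.exists_eq_two_pow_mul_odd (orderOf_pos (x : X)).ne'
    refine ⟨k, Subtype.ext ?_⟩
    show (x : X) ^ 2 ^ k = 1
    refine hodd _ (pow_mem x.2 _) ?_
    rw [orderOf_pow' _ (pow_ne_zero k two_ne_zero), hkm, Nat.gcd_mul_right_left,
      Nat.mul_div_cancel_left _ (pow_pos two_pos k)]
    exact hm
  have hN0Q : N0 ≤ Q := Fusion.le_pCore hN0p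
  have hAQ : A ≤ Q := fun a ha => hN0Q (Subgroup.subset_normalClosure ha)
  rw [show A = A0 from (inf_eq_left.2 hAQ).symm]
  exact hA0n

/-- An abelian strongly closed 2-subgroup of a solvable group is normal modulo the odd core. -/
theorem closed_sup_core_normal (hs : Group.IsSolvable X) (T : Sylow 2 X) {A : Subgroup X}
    (hA : A ≤ (T : Subgroup X)) (hAc : ∀ a ∈ A, ∀ b ∈ A, a * b = b * a)
    (hcl : ∀ g : X, ∀ a ∈ A, g * a * g⁻¹ ∈ (T : Subgroup X) → g * a * g⁻¹ ∈ A) :
    (A ⊔ pPrimeCore 2 X).Normal := by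
  haveI hOn : (pPrimeCore 2 X).Normal := Solv.pPrimeCore_normal 2
  set O := pPrimeCore 2 X with hO
  set π := QuotientGroup.mk' O with hπ
  have hsurj : Function.Surjective π := QuotientGroup.mk'_surjective O
  have hOc : (Nat.card O).Coprime 2 := Solv.pPrimeCore_coprime 2
  have h0 : pPrimeCore 2 (X ⧸ O) = ⊥ := Fusion.pPrimeCore_quotient_eq_bot
  set T' : Sylow 2 (X ⧸ O) := T.mapSurjective hsurj with hT'
  have hTO : SylIn 2 (T : Subgroup X) ((T : Subgroup X) ⊔ O) := by
    refine ⟨le_sup_left, T.isPGroup', fun h => T.not_dvd_index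
      (h.trans (Subgroup.relIndex_dvd_index_of_le le_sup_left))⟩
  have hn := closed_normal_of_core_bot (X := X ⧸ O) inferInstance h0 T' (A := A.map π)
    (by rw [hT', Sylow.coe_mapSurjective]; exact Subgroup.map_mono hA)
    (by rintro _ ⟨a, ha, rfl⟩ _ ⟨b, hb, rfl⟩; rw [← map_mul, ← map_mul, hAc a ha b hb])
    (by
      intro g' a' ha' hgT
      obtain ⟨a, ha, rfl⟩ := ha'
      obtain ⟨g, rfl⟩ := hsurj g'
      rw [hT', Sylow.coe_mapSurjective, ← map_inv, ← map_mul, ← map_mul] at hgT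
      rw [← map_inv, ← map_mul, ← map_mul]
      have hmem : g * a * g⁻¹ ∈ (T : Subgroup X) ⊔ O := by
        obtain ⟨t, ht, hte⟩ := hgT
        have : t⁻¹ * (g * a * g⁻¹) ∈ O := QuotientGroup.eq.1 hte
        rw [show g * a * g⁻¹ = t * (t⁻¹ * (g * a * g⁻¹)) by group]
        exact Subgroup.mul_mem_sup ht this
      have hQ : IsPGroup 2 ↥(Subgroup.zpowers (g * a * g⁻¹)) :=
        (isPGroup_cj T.isPGroup' g).to_le (Subgroup.zpowers_le.2 (conj_mem_cj (hA ha)))
      obtain ⟨z, hz, hzT⟩ := hTO.conj_le hQ (Subgroup.zpowers_le.2 hmem)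
      obtain ⟨t, o, ht, ho, rfl⟩ : ∃ t o, t ∈ (T : Subgroup X) ∧ o ∈ O ∧ z = t * o := by
        have hz' : z ∈ ((T : Subgroup X) : Set X) * (O : Set X) := by
          rw [← Subgroup.mul_normal]; exact hz
        obtain ⟨t, ht, o, ho, rfl⟩ := hz'
        exact ⟨t, o, ht, ho, rfl⟩
      have h1 : (t * o) * (g * a * g⁻¹) * (t * o)⁻¹ ∈ (T : Subgroup X) :=
        hzT ⟨_, Subgroup.mem_zpowers _, rfl⟩
      have h2 : (o * g) * a * (o * g)⁻¹ ∈ (T : Subgroup X) := by
        have := mul_mem (mul_mem (inv_mem ht) h1) ht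
        rwa [show t⁻¹ * ((t * o) * (g * a * g⁻¹) * (t * o)⁻¹) * t = (o * g) * a * (o * g)⁻¹ by group]
          at this
      refine ⟨_, hcl _ a ha h2, ?_⟩
      have ho1 : π o = 1 := (QuotientGroup.eq_one_iff o).2 ho
      simp only [map_mul, map_inv, ho1, one_mul, mul_inv_rev, inv_one, mul_one])
  have heq : A ⊔ O = (A.map π).comap π := by
    rw [Subgroup.comap_map_eq, hπ, QuotientGroup.ker_mk']
  rw [heq]
  exact hn.comap π

end free

variable {G : Type u} [Group G] [Finite G]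

/-- `O(X)` for a subgroup `X`, inside the ambient group. -/
def core2 (X : Subgroup G) : Subgroup G := (pPrimeCore 2 ↥X).map X.subtype

omit [Finite G] in
theorem core2_le (X : Subgroup G) : core2 X ≤ X := Subgroup.map_subtype_le _

theorem core2_odd (X : Subgroup G) : (Nat.card ↥(core2 X)).Coprime 2 := by
  rw [core2, Subgroup.card_map_of_injective X.subtype_injective]
  exact Solv.pPrimeCore_coprime 2

omit [Finite G] in
theorem core2_normalized (X : Subgroup G) : X ≤ Subgroup.normalizer (core2 X : Set G) := by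
  haveI : (pPrimeCore 2 ↥X).Normal := Solv.pPrimeCore_normal 2
  have h := Subgroup.le_normalizer_map X.subtype (H := pPrimeCore 2 ↥X)
  rw [Subgroup.normalizer_eq_top_iff.2 inferInstance, ← MonoidHom.range_eq_map, X.range_subtype] at h
  exact h

/-- In a solvable subgroup `X`, an abelian strongly closed 2-subgroup is normalised by `X` modulo
`O(X)`. -/
theorem closed_factor {X A T : Subgroup G} (hs : Group.IsSolvable ↥X) (hT : SylIn 2 T X) (hA : A ≤ T)
    (hAc : ∀ a ∈ A, ∀ b ∈ A, a * b = b * a)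
    (hcl : ∀ g ∈ X, ∀ a ∈ A, g * a * g⁻¹ ∈ T → g * a * g⁻¹ ∈ A) {x : G} (hx : x ∈ X) :
    ∃ o ∈ core2 X, o * x ∈ Subgroup.normalizer (A : Set G) := by
  haveI : Fact (Nat.Prime 2) := ⟨Nat.prime_two⟩
  have hAX : A ≤ X := hA.trans hT.le
  obtain ⟨P, hP⟩ := hT.exists_sylow_subgroupOf
  have hn : (A.subgroupOf X ⊔ pPrimeCore 2 ↥X).Normal := closed_sup_core_normal hs P
    (by rw [hP]; exact Subgroup.comap_mono hA)
    (fun a ha b hb => Subtype.ext (hAc _ ha _ hb))
    (by
      intro g a ha hg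
      rw [hP] at hg
      exact hcl g g.2 a ha hg)
  haveI : (pPrimeCore 2 ↥X).Normal := Solv.pPrimeCore_normal 2
  have hA2 : IsPGroup 2 ↥(A.subgroupOf X) := (hT.isPGroup.to_le hA).comap_subtype
  have hsyl : SylIn 2 (A.subgroupOf X) (A.subgroupOf X ⊔ pPrimeCore 2 ↥X) := by
    refine ⟨le_sup_left, hA2, fun h => ?_⟩
    rw [sup_comm, Subgroup.relIndex, Subgroup.subgroupOf] at h
    have hd : (A.subgroupOf X).relIndex (pPrimeCore 2 ↥X ⊔ A.subgroupOf X) ∣
        Nat.card ↥(pPrimeCore 2 ↥X) := by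
      have h1 := Fusion.card_sup_dvd (pPrimeCore 2 ↥X) (A.subgroupOf X)
      have h2 : Nat.card ↥(A.subgroupOf X) *
          (A.subgroupOf X).relIndex (pPrimeCore 2 ↥X ⊔ A.subgroupOf X) =
            Nat.card ↥(pPrimeCore 2 ↥X ⊔ A.subgroupOf X : Subgroup ↥X) := by
        have := Subgroup.relIndex_mul_relIndex ⊥ (A.subgroupOf X)
          (pPrimeCore 2 ↥X ⊔ A.subgroupOf X) bot_le le_sup_right
        simpa only [Subgroup.relIndex_bot_left] using this
      rw [sup_comm (A.subgroupOf X), ← h2] at h1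
      exact Nat.dvd_of_mul_dvd_mul_left Nat.card_pos h1
    exact (Nat.prime_two.coprime_iff_not_dvd.1 (Solv.pPrimeCore_coprime (G := ↥X) 2).symm) (h.trans hd)
  obtain ⟨n, hn', hnx⟩ := frattini_conj (H := ⊤) hsyl
    (by rw [Subgroup.normalizer_eq_top_iff.2 hn]) (Subgroup.mem_top (⟨x, hx⟩ : ↥X))
  obtain ⟨a, o, ha, ho, rfl⟩ :
      ∃ a o, a ∈ A.subgroupOf X ∧ o ∈ pPrimeCore 2 ↥X ∧ n = a * o := by
    have hz' : n ∈ ((A.subgroupOf X : Subgroup ↥X) : Set ↥X) * (pPrimeCore 2 ↥X : Set ↥X) := by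
      rw [← Subgroup.mul_normal]; exact hn'
    obtain ⟨t, ht, o, ho, rfl⟩ := hz'
    exact ⟨t, o, ht, ho, rfl⟩
  refine ⟨(o : G), ⟨o, ho, rfl⟩, ?_⟩
  have h2 : (o * ⟨x, hx⟩ : ↥X) ∈ Subgroup.normalizer ((A.subgroupOf X : Subgroup ↥X) : Set ↥X) := by
    have := mul_mem (inv_mem (Subgroup.le_normalizer ha)) hnx
    rwa [mul_assoc a, inv_mul_cancel_left] at this
  rw [← Subgroup.subgroupOf_normalizer_eq hAX] at h2
  exact h2

end Cfsg.Agent.PPrimeNilpotent
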