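import Cfsg.Agent.Lib.Solv.PPrimeNilpotent.Closed
import Cfsg.Agent.Lib.Solv.PPrimeNilpotent.StrongClosed
import Cfsg.Agent.Lib.Char.NoTwoPStrongEmb
import Cfsg.Agent.Lib.Solv.Generation
import Cfsg.Agent.S0217
import Cfsg.Prelude.Def_Involutions

/-!
# The strongly embedded subgroup
-/

set_option autoImplicit false
set_option linter.style.haveILetI false
set_option linter.unusedSectionVars false

namespace Cfsg.Agent.PPrimeNilpotent

open Cfsg Cfsg.Agent.Fusion

universe u

variable {G : Type u} [Group G] [Finite G] {p : ℕ} {S E : Subgroup G}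

theorem zpowers_isPGroup_two {a : G} {H : Subgroup G} (hH : IsPGroup 2 ↥H) (ha : a ∈ H) :
    IsPGroup 2 ↥(Subgroup.zpowers a) := hH.to_le (Subgroup.zpowers_le.2 ha)

/-- The closed subgroup is closed in every Sylow 2-subgroup. -/
theorem Closed.mem_cj (hc : Closed S E) {x : G} {g k : G} (hx : x ∈ cj E g) (hxS : x ∈ cj S k) :
    x ∈ cj E k := by
  rw [Fusion.mem_cj] at hx hxS ⊢
  have h := hc.mem (g := k⁻¹ * g) hx (by
    rwa [show k⁻¹ * g * (g⁻¹ * x * g) * (k⁻¹ * g)⁻¹ = k⁻¹ * x * k by group])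
  rwa [show k⁻¹ * g * (g⁻¹ * x * g) * (k⁻¹ * g)⁻¹ = k⁻¹ * x * k by group] at h

theorem Closed.eq_cj (hc : Closed S E) {g k : G} (h : cj E g ≤ cj S k) : cj E g = cj E k := by
  refine Subgroup.eq_of_le_of_card_ge (fun x hx => hc.mem_cj hx (h hx)) ?_
  rw [card_cj, card_cj]

/-- The subgroup generated by the cores of centralisers of the elements of `E`. -/
def signal (E : Subgroup G) : Subgroup G :=
  ⨆ a : {a : G // a ∈ E ∧ a ≠ 1}, centralizerPPrimeCore 2 (a : G)

theorem Ctx.cent_solvable (c : Ctx p G) {a : G} (ha : a ≠ 1) :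
    Group.IsSolvable ↥(Subgroup.centralizer ({a} : Set G)) := c.sub _ (c.centralizer_ne_top ha)

theorem Ctx.signal_facts (c : Ctx p G) (hc : Closed S E) (h8 : 8 ≤ Nat.card ↥E) :
    Odd (Nat.card ↥(signal E)) ∧ ∀ a ∈ E, a ≠ 1 →
      signal E ⊓ Subgroup.centralizer {a} = centralizerPPrimeCore 2 a := by
  haveI : Fact (Nat.Prime 2) := ⟨Nat.prime_two⟩
  have h := Cfsg.Agent.S0217.result (p := 2) E hc.comm (fun a ha => by rw [pow_two]; exact hc.sq a ha)
    (by simpa using h8) (fun a => centralizerPPrimeCore 2 a)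
    (fun a _ _ => Subgroup.map_subtype_le _)
    (fun a _ _ hd => Nat.prime_two.coprime_iff_not_dvd.1 (core2_odd (Subgroup.centralizer ({a} : Set G))).symm hd)
    (fun a ha ha1 b hb x hx => (Subgroup.mem_normalizer_iff.1
      (core2_normalized _ (Subgroup.mem_centralizer_singleton_iff.2 (hc.comm b hb a ha))) x).1 hx)
    (fun a _ ha1 => by
      haveI := c.cent_solvable ha1
      exact Group.isSolvable_of_isSolvable_injective
        (Subgroup.inclusion_injective (Subgroup.map_subtype_le _ :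
          centralizerPPrimeCore 2 a ≤ Subgroup.centralizer ({a} : Set G))))
    (fun a ha ha1 b hb hb1 => centralizerPPrimeCore_inf_le (zpowers_isPGroup_two hc.isPGroup ha)
      (hc.comm a ha b hb) (c.cent_solvable hb1))
  exact ⟨Nat.not_even_iff_odd.1 fun he => h.1 he.two_dvd, h.2⟩

theorem core_le_signal {a : G} (ha : a ∈ E) (ha1 : a ≠ 1) : centralizerPPrimeCore 2 a ≤ signal E :=
  le_iSup (fun b : {b : G // b ∈ E ∧ b ≠ 1} => centralizerPPrimeCore 2 (b : G)) ⟨a, ha, ha1⟩

theorem normalizer_le_normalizer_signal :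
    Subgroup.normalizer (E : Set G) ≤ Subgroup.normalizer (signal E : Set G) := by
  intro g hg
  refine mem_normalizer_of_cj_le ?_
  rw [cj, signal, Subgroup.map_iSup]
  refine iSup_le fun a => ?_
  rintro _ ⟨x, hx, rfl⟩
  exact core_le_signal (E := E) ((Subgroup.mem_normalizer_iff.1 hg a).1 a.2.1)
    (fun e => a.2.2 (conj_eq_one_iff.1 e)) (Char.NoTwoP.conj_mem_centralizerPPrimeCore g hx)

open scoped _root_.Classical in
/-- The candidate for the strongly embedded subgroup. -/
noncomputable def local2 (E : Subgroup G) : Subgroup G :=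
  if signal E = ⊥ then Subgroup.normalizer (E : Set G) else Subgroup.normalizer (signal E : Set G)

theorem normalizer_le_local2 : Subgroup.normalizer (E : Set G) ≤ local2 E := by
  unfold local2
  split_ifs
  · exact le_rfl
  · exact normalizer_le_normalizer_signal

theorem signal_le_local2 : signal E ≤ local2 E := by
  unfold local2
  split_ifs with h
  · rw [h]; exact bot_le
  · exact Subgroup.le_normalizer

theorem Ctx.local2_ne_top (c : Ctx p G) (hc : Closed S E) (h8 : 8 ≤ Nat.card ↥E) : local2 E ≠ ⊤ := by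
  unfold local2
  split_ifs with h
  · refine c.normalizer_ne_top (fun e => ?_) (c.ne_top_of_two hc.isPGroup)
    rw [e, Subgroup.card_bot] at h8
    omega
  · refine c.normalizer_ne_top h fun e => ?_
    have := (c.signal_facts hc h8).1
    rw [e, Subgroup.card_top] at this
    exact Nat.not_even_iff_odd.2 this c.even_card

/-- The basic lemma: `G`-fusion inside `E` is controlled by the candidate. -/
theorem Ctx.mem_local2_of_fused (c : Ctx p G) (hc : Closed S E) {a g : G} (ha : a ∈ E) (ha1 : a ≠ 1)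
    (hg : g⁻¹ * a * g ∈ E) : g ∈ local2 E := by
  haveI : Fact (Nat.Prime 2) := ⟨Nat.prime_two⟩
  set X := Subgroup.centralizer ({a} : Set G)
  have hEX : E ≤ X := fun e he => Subgroup.mem_centralizer_singleton_iff.2 (hc.comm e he a ha)
  have hgX : cj E g ≤ X := fun e he => Subgroup.mem_centralizer_singleton_iff.2 (by
    have := hc.comm _ (Fusion.mem_cj.1 he) _ hg
    calc e * a = g * ((g⁻¹ * e * g) * (g⁻¹ * a * g)) * g⁻¹ := by group
      _ = g * ((g⁻¹ * a * g) * (g⁻¹ * e * g)) * g⁻¹ := by rw [this]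
      _ = a * e := by group)
  obtain ⟨T, hT, hET⟩ := exists_sylIn_ge hc.isPGroup hEX
  obtain ⟨k, -, hk⟩ := hc.syl.conj_le hT.isPGroup le_top
  rw [cj_le_iff] at hk
  have hEk : E = cj E k⁻¹ := by
    have h := hc.eq_cj (g := 1) (k := k⁻¹) (by rw [cj_one]; exact hET.trans hk)
    rwa [cj_one] at h
  obtain ⟨z, hz, hzT⟩ := hT.conj_le (isPGroup_cj hc.isPGroup g) hgX
  rw [cj_cj] at hzT
  have hzg : cj E (z * g) = E := (hc.eq_cj (hzT.trans hk)).trans hEk.symm
  obtain ⟨o, ho, hoz⟩ := closed_factor (c.cent_solvable ha1) hT hET hc.comm (by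
    intro y _ e he hye
    rw [hEk]
    exact hc.mem_cj (g := y) (Fusion.conj_mem_cj he) (hk hye)) hz
  have h1 : z ∈ local2 E := by
    have := mul_mem (inv_mem (signal_le_local2 (core_le_signal (E := E) ha ha1 ho)))
      (normalizer_le_local2 hoz)
    rwa [inv_mul_cancel_left] at this
  have h2 : z * g ∈ local2 E := normalizer_le_local2 (mem_normalizer_iff_cj.2 hzg)
  have := mul_mem (inv_mem h1) h2
  rwa [inv_mul_cancel_left] at this

/-- The centraliser in `E` of an element normalising `E` and squaring to one is not too small. -/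
theorem card_fixed (hc : Closed S E) (h8 : 8 ≤ Nat.card ↥E) {t : G} (ht : t * t = 1)
    (htn : t ∈ Subgroup.normalizer (E : Set G)) :
    4 ≤ Nat.card ↥(E ⊓ Subgroup.centralizer ({t} : Set G) : Subgroup G) := by
  haveI : Fact (Nat.Prime 2) := ⟨Nat.prime_two⟩
  set C := E ⊓ Subgroup.centralizer ({t} : Set G) with hC
  have hti : t⁻¹ = t := inv_eq_of_mul_eq_one_left ht
  have hconj : ∀ e ∈ E, t * e * t ∈ E := fun e he => by
    have := (Subgroup.mem_normalizer_iff.1 htn e).1 he
    rwa [hti] at this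
  let f : ↥E →* ↥E :=
    { toFun := fun e => ⟨(e : G) * (t * e * t), mul_mem e.2 (hconj e e.2)⟩
      map_one' := Subtype.ext (by simp [ht])
      map_mul' := fun a b => Subtype.ext (by
        show (a : G) * b * (t * (a * b) * t) = a * (t * a * t) * (b * (t * b * t))
        have h1 := hc.comm (b : G) b.2 (t * a * t) (hconj a a.2)
        calc (a : G) * b * (t * (a * b) * t) = a * (b * (t * a * t)) * (t⁻¹ * (b : G) * t) := by group
          _ = a * ((t * a * t) * b) * (t * b * t) := by rw [h1, hti]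
          _ = _ := by group) }
  have hmem : ∀ e : ↥E, f e = 1 ↔ (e : G) ∈ C := by
    intro e
    have he2 := hc.sq e e.2
    rw [hC, Subgroup.mem_inf, and_iff_right e.2, Subgroup.mem_centralizer_singleton_iff]
    constructor
    · intro h
      have h' : (e : G) * (t * e * t) = 1 := congrArg Subtype.val h
      calc (e : G) * t = e * (e * (t * e * t)) * t := by rw [h', mul_one]
        _ = (e * e) * t * e * (t * t) := by group
        _ = t * e := by rw [he2, ht, one_mul, mul_one]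
    · intro h
      refine Subtype.ext ?_
      show (e : G) * (t * e * t) = 1
      calc (e : G) * (t * e * t) = e * t * e * t := by group
        _ = t * (e * e) * t := by rw [h]; group
        _ = 1 := by rw [he2, mul_one, ht]
  have hker : Nat.card ↥f.ker = Nat.card ↥C := by
    refine Nat.card_congr ⟨fun e => ⟨((e : ↥E) : G), (hmem _).1 e.2⟩,
      fun e => ⟨⟨e, e.2.1⟩, (hmem _).2 e.2⟩, fun _ => rfl, fun _ => rfl⟩
  have him : Nat.card ↥f.range ≤ Nat.card ↥C := by
    refine Nat.card_le_card_of_injective (fun e => ⟨((e : ↥E) : G), ?_⟩)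
      (fun a b h => Subtype.ext (Subtype.ext (congrArg (fun v : ↥C => (v : G)) h)))
    obtain ⟨v, hv⟩ := e.2
    rw [← hv]
    refine Subgroup.mem_inf.2 ⟨(f v).2, Subgroup.mem_centralizer_singleton_iff.2 ?_⟩
    show (v : G) * (t * v * t) * t = t * ((v : G) * (t * v * t))
    calc (v : G) * (t * v * t) * t = v * t * v * (t * t) := by group
      _ = v * (t * v * t) * t := by group
      _ = (t * v * t) * v * t := by rw [hc.comm v v.2 _ (hconj v v.2)]
      _ = t * (v * (t * v * t)) := by group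
  have hprod : Nat.card ↥f.ker * Nat.card ↥f.range = Nat.card ↥E := by
    rw [← Subgroup.index_ker]; exact f.ker.card_mul_index
  obtain ⟨k, hk⟩ := IsPGroup.iff_card.1 (hc.isPGroup.to_le (inf_le_left : C ≤ E))
  rw [hk] at hker him ⊢
  rw [hker] at hprod
  rcases k with _ | _ | k
  · have := Nat.mul_le_mul_left (2 ^ 0) him
    norm_num at this hprod ⊢
    omega
  · have := Nat.mul_le_mul_left (2 ^ 1) him
    norm_num at this hprod ⊢
    omega
  · calc 4 = 2 ^ 2 := by norm_num
      _ ≤ _ := Nat.pow_le_pow_right (by norm_num) (by omega)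

theorem Ctx.centralizer_le_local2 (c : Ctx p G) (hc : Closed S E) (h8 : 8 ≤ Nat.card ↥E) {t : G}
    (ht : t * t = 1) (ht1 : t ≠ 1) (htS : t ∈ S) :
    Subgroup.centralizer ({t} : Set G) ≤ local2 E := by
  haveI : Fact (Nat.Prime 2) := ⟨Nat.prime_two⟩
  set X := Subgroup.centralizer ({t} : Set G) with hX
  set A := E ⊓ X with hA
  have hA4 : 4 ≤ Nat.card ↥A := card_fixed hc h8 ht (hc.norm htS)
  have hAne : A ≠ ⊥ := fun e => by rw [e, Subgroup.card_bot] at hA4; omega
  obtain ⟨⟨a, haA⟩, ha1⟩ := Subgroup.ne_bot_iff_exists_ne_one.1 hAne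
  have ha1' : a ≠ 1 := fun e => ha1 (Subtype.ext e)
  set O := core2 X with hO
  have hOM : O ≤ local2 E := by
    refine le_trans ?_ (signal_le_local2 (E := E))
    have hAcomm : IsMulCommutative A :=
      ⟨⟨fun x y => Subtype.ext (hc.comm x x.2.1 y y.2.1)⟩⟩
    have hco : (Nat.card ↥A).Coprime (Nat.card ↥O) := by
      obtain ⟨k, hk⟩ := IsPGroup.iff_card.1 (hc.isPGroup.to_le (inf_le_left : A ≤ E))
      rw [hk]
      exact (core2_odd X).symm.pow_left k
    refine (Solv.gen_eq A O hAcomm (inf_le_right.trans (core2_normalized X)) hco).ge.trans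
      (iSup₂_le fun B hB => ?_)
    obtain ⟨hBA, v, hv, hBv⟩ := hB
    have hB1 : B ≠ ⊥ := by
      intro e
      rw [e, bot_sup_eq] at hBv
      rw [← hBv, Nat.card_zpowers] at hA4
      have := Nat.le_of_dvd (by norm_num) (orderOf_dvd_of_pow_eq_one (by rw [pow_two]; exact hc.sq v hv.1) :
        orderOf v ∣ 2)
      omega
    obtain ⟨⟨b, hbB⟩, hb1⟩ := Subgroup.ne_bot_iff_exists_ne_one.1 hB1
    have hb1' : b ≠ 1 := fun e => hb1 (Subtype.ext e)
    have hbA := hBA hbB
    refine le_trans (inf_le_inf_left _ (Subgroup.centralizer_le (Set.singleton_subset_iff.2 hbB))) ?_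
    refine le_trans ?_ (core_le_signal hbA.1 hb1')
    exact centralizerPPrimeCore_inf_le (zpowers_isPGroup_two hc.syl.isPGroup htS)
      (Subgroup.mem_centralizer_singleton_iff.1 hbA.2).symm (c.cent_solvable hb1')
  obtain ⟨T, hT, hAT⟩ := exists_sylIn_ge (hc.isPGroup.to_le (inf_le_left : A ≤ E)) (inf_le_right : A ≤ X)
  obtain ⟨k, -, hk⟩ := hc.syl.conj_le hT.isPGroup le_top
  rw [cj_le_iff] at hk
  set g := k⁻¹
  have hag : a ∈ cj E g := hc.mem_cj (g := 1) (by rw [cj_one]; exact haA.1) (hk (hAT haA))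
  have hgM : g ∈ local2 E := c.mem_local2_of_fused hc haA.1 ha1' (Fusion.mem_cj.1 hag)
  intro x hx
  obtain ⟨o, ho, hox⟩ := closed_factor (A := cj E g ⊓ T) (c.cent_solvable ht1) hT inf_le_right
    (by
      intro u hu v hv
      obtain ⟨u', hu', rfl⟩ := hu.1
      obtain ⟨v', hv', rfl⟩ := hv.1
      rw [← map_mul, ← map_mul, hc.comm u' hu' v' hv'])
    (by
      intro y _ e he hye
      obtain ⟨e', he', rfl⟩ := he.1
      refine Subgroup.mem_inf.2 ⟨hc.mem_cj (g := y * g) ?_ (hk hye), hye⟩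
      refine ⟨e', he', ?_⟩
      show y * g * e' * (y * g)⁻¹ = y * (g * e' * g⁻¹) * y⁻¹
      group) hx
  have h1 := (Subgroup.mem_normalizer_iff.1 hox a).1 (Subgroup.mem_inf.2 ⟨hag, hAT haA⟩)
  set x' := o * x
  have h2 : (x'⁻¹ * g)⁻¹ * a * (x'⁻¹ * g) ∈ E := by
    have := Fusion.mem_cj.1 h1.1
    rwa [show (x'⁻¹ * g)⁻¹ * a * (x'⁻¹ * g) = g⁻¹ * (x' * a * x'⁻¹) * g by group]
  have h3 := c.mem_local2_of_fused hc haA.1 ha1' h2
  have h4 : x' ∈ local2 E := by
    have := mul_mem hgM (inv_mem h3)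
    rwa [show g * (x'⁻¹ * g)⁻¹ = x' by group] at this
  have := mul_mem (inv_mem (hOM ho)) h4
  rwa [inv_mul_cancel_left] at this

theorem le_local2 (hc : Closed S E) : S ≤ local2 E := hc.norm.trans normalizer_le_local2

/-- The candidate is strongly embedded. -/
theorem Ctx.local2_embedded (c : Ctx p G) (hc : Closed S E) (h8 : 8 ≤ Nat.card ↥E) :
    IsStronglyEmbedded (local2 E) := by
  haveI : Fact (Nat.Prime 2) := ⟨Nat.prime_two⟩
  set M := local2 E with hM
  have hSM : SylIn 2 S M := hc.syl.mono (le_local2 hc) le_top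
  have hSne : S ≠ ⊥ := fun e => by
    have := Subgroup.card_le_of_le hc.le
    rw [e, Subgroup.card_bot] at this
    omega
  have hcM : ∀ s ∈ M, s * s = 1 → s ≠ 1 → Subgroup.centralizer ({s} : Set G) ≤ M := by
    intro s hs hs2 hs1
    obtain ⟨m, hm, hmS⟩ := hSM.conj_le (Q := Subgroup.zpowers s) (IsPGroup.of_card (n := 1) (by
      rw [Nat.card_zpowers, pow_one, orderOf_eq_prime (by rw [pow_two]; exact hs2) hs1]))
      (Subgroup.zpowers_le.2 hs)
    have hs' : m * s * m⁻¹ ∈ S := hmS ⟨s, Subgroup.mem_zpowers s, rfl⟩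
    have h := c.centralizer_le_local2 hc h8 (t := m * s * m⁻¹)
      (by rw [show m * s * m⁻¹ * (m * s * m⁻¹) = m * (s * s) * m⁻¹ by group, hs2, mul_one, mul_inv_cancel])
      (fun e => hs1 (conj_eq_one_iff.1 e)) hs'
    intro x hx
    have := h (x := m * x * m⁻¹) (Subgroup.mem_centralizer_singleton_iff.2 (by
      rw [show m * x * m⁻¹ * (m * s * m⁻¹) = m * (x * s) * m⁻¹ by group,
        Subgroup.mem_centralizer_singleton_iff.1 hx]; group))
    have := mul_mem (mul_mem (inv_mem hm) this) hm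
    rwa [show m⁻¹ * (m * x * m⁻¹) * m = x by group] at this
  refine ⟨c.local2_ne_top hc h8, ?_, fun g hg => ?_⟩
  · obtain ⟨k, hk⟩ := IsPGroup.iff_card.1 hc.syl.isPGroup
    refine even_iff_two_dvd.2 (dvd_trans ?_ (Subgroup.card_dvd_of_le (le_local2 hc)))
    rw [hk]
    refine dvd_pow_self 2 fun h0 => hSne (Subgroup.eq_bot_of_card_eq _ ?_)
    rw [hk, h0, pow_zero]
  rw [← Nat.not_even_iff_odd]
  intro heven
  obtain ⟨t₁, ht₁⟩ := exists_prime_orderOf_dvd_card' 2 (even_iff_two_dvd.1 heven)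
  rw [← Subgroup.orderOf_coe] at ht₁
  obtain ⟨t₀, ht₀M, ht₀g, ht₀o⟩ : ∃ t₀ : G, t₀ ∈ M ∧ t₀ ∈ cj M g ∧ orderOf t₀ = 2 :=
    ⟨t₁, t₁.2.1, t₁.2.2, ht₁⟩
  obtain ⟨m, hm, hmS⟩ := hSM.conj_le (Q := Subgroup.zpowers t₀)
    (IsPGroup.of_card (n := 1) (by rw [Nat.card_zpowers, pow_one, ht₀o])) (Subgroup.zpowers_le.2 ht₀M)
  set t := m * t₀ * m⁻¹
  have htS : t ∈ S := hmS ⟨t₀, Subgroup.mem_zpowers t₀, rfl⟩
  have hto : orderOf t = 2 := (orderOf_injective (MulAut.conj m).toMonoidHom (MulAut.conj m).injective t₀).trans ht₀o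
  have ht2 : t * t = 1 := by rw [← pow_two, ← hto, pow_orderOf_eq_one]
  set h := m * g with hh
  have hhM : h ∉ M := fun hh' => hg (by
    have := mul_mem (inv_mem hm) hh'
    rwa [hh, inv_mul_cancel_left] at this)
  have hth : t ∈ cj M h := by
    rw [hh, ← cj_cj]
    exact Fusion.conj_mem_cj ht₀g
  set A := E ⊓ Subgroup.centralizer ({t} : Set G) with hA
  have hA4 : 4 ≤ Nat.card ↥A := card_fixed hc h8 ht2 (hc.norm htS)
  have hAM : A ≤ cj M h := by
    intro x hx
    refine Fusion.mem_cj.2 (hcM (h⁻¹ * t * h) (Fusion.mem_cj.1 hth) ?_ ?_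
      (Subgroup.mem_centralizer_singleton_iff.2 ?_))
    · rw [show h⁻¹ * t * h * (h⁻¹ * t * h) = h⁻¹ * (t * t) * h by group, ht2, mul_one, inv_mul_cancel]
    · intro e
      rw [show t = h * (h⁻¹ * t * h) * h⁻¹ by group, e, mul_one, mul_inv_cancel, orderOf_one] at hto
      omega
    · have hc' := Subgroup.mem_centralizer_singleton_iff.1 hx.2
      rw [show h⁻¹ * x * h * (h⁻¹ * t * h) = h⁻¹ * (x * t) * h by group, hc']
      group
  obtain ⟨z, hz, hzS⟩ := (hSM.cj h).conj_le (hc.isPGroup.to_le (inf_le_left : A ≤ E)) hAM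
  have hAne : A ≠ ⊥ := fun e => by rw [e, Subgroup.card_bot] at hA4; omega
  obtain ⟨⟨a, haA⟩, ha1⟩ := Subgroup.ne_bot_iff_exists_ne_one.1 hAne
  have haS : a ∈ cj S (z⁻¹ * h) := by
    rw [cj_le_iff, cj_cj] at hzS
    exact hzS haA
  have haE : a ∈ cj E (z⁻¹ * h) := hc.mem_cj (g := 1) (by rw [cj_one]; exact haA.1) haS
  have h5 := c.mem_local2_of_fused hc haA.1 (fun e => ha1 (Subtype.ext e)) (Fusion.mem_cj.1 haE)
  apply hhM
  have hz' : h⁻¹ * z * h ∈ M := Fusion.mem_cj.1 hz
  have := mul_mem h5 hz'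
  rwa [show z⁻¹ * h * (h⁻¹ * z * h) = h by group] at this

end Cfsg.Agent.PPrimeNilpotent
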