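import Cfsg.Agent.Lib.Local.TypePBasic
import Cfsg.Agent.Lib.Fusion.Cores
import Cfsg.Agent.Lib.Solv.Hall

/-!
# Groups all whose `p'`-subgroups are nilpotent: first facts and the reduction to simple groups
-/

set_option autoImplicit false
set_option linter.style.haveILetI false

namespace Cfsg.Agent.PPrimeNilpotent

open Cfsg

universe u

variable {G : Type u} [Group G] [Finite G] {p : ℕ}

/-- Every subgroup of order prime to `p` is nilpotent. -/
def Hyp (p : ℕ) (G : Type*) [Group G] : Prop :=
  ∀ H : Subgroup G, (Nat.card ↥H).Coprime p → Group.IsNilpotent ↥H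

omit [Finite G] in
theorem Hyp.subgroup (h : Hyp p G) (K : Subgroup G) : Hyp p ↥K := by
  intro H hH
  have e := H.equivMapOfInjective K.subtype K.subtype_injective
  have : Group.IsNilpotent ↥(H.map K.subtype) := h _ (by rwa [← Nat.card_congr e.toEquiv])
  exact Group.nilpotent_of_mulEquiv e.symm

/-- An element of order prime to `p` centralises every subgroup it normalises whose order is prime
to `p` and to the order of the element. -/
theorem Hyp.commute (h : Hyp p G) {x : G} {U : Subgroup G} (hx : (orderOf x).Coprime p)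
    (hU : (Nat.card ↥U).Coprime p) (hUx : (Nat.card ↥U).Coprime (orderOf x))
    (hn : x ∈ Subgroup.normalizer (U : Set G)) {u : G} (hu : u ∈ U) : Commute x u := by
  set K := Subgroup.zpowers x ⊔ U with hK
  have hle : K ≤ Subgroup.normalizer (U : Set G) :=
    sup_le (Subgroup.zpowers_le.2 hn) Subgroup.le_normalizer
  have hxK : x ∈ K := Subgroup.mem_sup_left (Subgroup.mem_zpowers x)
  have huK : u ∈ K := Subgroup.mem_sup_right hu
  have hcard : (Nat.card ↥K).Coprime p := by
    haveI : (U.subgroupOf K).Normal := Subgroup.normal_subgroupOf_iff_le_normalizer le_sup_right |>.2 hle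
    have htop : (Subgroup.zpowers x).subgroupOf K ⊔ U.subgroupOf K = ⊤ := by
      rw [← Subgroup.subgroupOf_sup le_sup_left le_sup_right, Subgroup.subgroupOf_eq_top]
    have hd := Fusion.card_sup_dvd (U.subgroupOf K) ((Subgroup.zpowers x).subgroupOf K)
    rw [htop, Subgroup.card_top,
      Nat.card_congr (Subgroup.subgroupOfEquivOfLe (le_sup_left : Subgroup.zpowers x ≤ K)).toEquiv,
      Nat.card_congr (Subgroup.subgroupOfEquivOfLe (le_sup_right : U ≤ K)).toEquiv,
      Nat.card_zpowers] at hd
    exact (hx.mul_left hU).coprime_dvd_left hd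
  haveI : Group.IsNilpotent ↥K := h K hcard
  have hc := TypePBasic.commute_of_coprime (x := (⟨x, hxK⟩ : ↥K)) (y := ⟨u, huK⟩) (by
    rw [Subgroup.orderOf_mk, Subgroup.orderOf_mk]
    exact (hUx.coprime_dvd_left (Subgroup.orderOf_dvd_natCard U hu)).symm)
  exact congrArg Subtype.val hc.eq

/-- A `p'`-image of a solvable subgroup is nilpotent. -/
theorem Hyp.image (h : Hyp p G) (hp : p.Prime) {K : Subgroup G} (hK : Group.IsSolvable ↥K)
    {X : Type*} [Group X] (f : G →* X) (hc : (Nat.card ↥(K.map f)).Coprime p) :
    Group.IsNilpotent ↥(K.map f) := by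
  obtain ⟨k, m, hm, hkm⟩ := Nat.exists_eq_pow_mul_and_not_dvd (Nat.card_pos (α := ↥K)).ne' p hp.ne_one
  have hmp : m.Coprime p := ((Nat.Prime.coprime_iff_not_dvd hp).2 hm).symm
  obtain ⟨H, hH⟩ := Solv.hall_exists hK (m := m) (n := p ^ k) (by rw [hkm, mul_comm])
    (hmp.pow_right k)
  let g : ↥K →* ↥(K.map f) := (f.subgroupMap K)
  have hg : Function.Surjective g := f.subgroupMap_surjective K
  have htop : H.map g = ⊤ := by
    have hidx : (H.map g).index ∣ H.index := H.index_map_dvd hg
    have hHi : H.index = p ^ k := by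
      have := H.card_mul_index
      rw [hH, hkm, mul_comm (p ^ k)] at this
      exact Nat.eq_of_mul_eq_mul_left (Nat.pos_of_ne_zero fun e => hm (by rw [e]; exact dvd_zero _)) this
    rw [← Subgroup.index_eq_one]
    exact Nat.eq_one_of_dvd_coprimes (hc.pow_right k) (H.map g).index_dvd_card (hHi ▸ hidx)
  have hHn : Group.IsNilpotent ↥H := by
    have := (h.subgroup K) H (by rw [hH]; exact hmp)
    exact this
  let g' : ↥H →* ↥(K.map f) := g.comp H.subtype
  refine Group.nilpotent_of_surjective g' ?_
  rw [← MonoidHom.range_eq_top, MonoidHom.range_comp, H.range_subtype, htop]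

/-- A proper nontrivial normal subgroup lets solvability through. -/
theorem solvable_of_normal (h : Hyp p G) (hp : p.Prime)
    (hsub : ∀ H : Subgroup G, H ≠ ⊤ → Group.IsSolvable ↥H)
    (hind : ∀ (X : Type u) [Group X] [Finite X], Nat.card X < Nat.card G → Hyp p X → Group.IsSolvable X)
    (N : Subgroup G) [N.Normal] (hN1 : N ≠ ⊥) (hN2 : N ≠ ⊤) : Group.IsSolvable G := by
  haveI := hsub N hN2
  set q := QuotientGroup.mk' N
  have hq : Function.Surjective q := QuotientGroup.mk'_surjective N
  suffices hQ : Group.IsSolvable (G ⧸ N) by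
    exact Group.isSolvable_of_ker_le_range N.subtype q (by rw [QuotientGroup.ker_mk', N.range_subtype])
  have hlt : Nat.card (G ⧸ N) < Nat.card G := by
    have hN : 1 < Nat.card ↥N := N.one_lt_card_iff_ne_bot.2 hN1
    rw [Subgroup.card_eq_card_quotient_mul_card_subgroup N]
    exact lt_mul_of_one_lt_right Nat.card_pos hN
  haveI := Fact.mk hp
  by_cases hall : (Nat.card (G ⧸ N)).Coprime p
  · obtain ⟨P, hP⟩ : ∃ P : Sylow p G, (P : Subgroup G) ≤ N := by
      obtain ⟨P⟩ : Nonempty (Sylow p G) := inferInstance
      refine ⟨P, fun x hx => ?_⟩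
      rw [← QuotientGroup.eq_one_iff]
      obtain ⟨k, hk⟩ := P.isPGroup' ⟨x, hx⟩
      have hxk : x ^ p ^ k = 1 := congrArg Subtype.val hk
      refine orderOf_eq_one_iff.1 (Nat.eq_one_of_dvd_coprimes (hall.pow_right k) (orderOf_dvd_natCard _)
        (orderOf_dvd_of_pow_eq_one ?_))
      rw [← QuotientGroup.mk_pow, hxk, QuotientGroup.mk_one]
    by_cases hn : Subgroup.normalizer ((P : Subgroup G) : Set G) = ⊤
    · haveI : (P : Subgroup G).Normal := Subgroup.normalizer_eq_top_iff.1 hn
      obtain ⟨C, hC⟩ := Subgroup.exists_right_complement'_of_coprime P.card_coprime_index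
      have hCp : (Nat.card ↥C).Coprime p := by
        rw [← hC.symm.index_eq_card]
        exact ((Nat.Prime.coprime_iff_not_dvd hp).2 P.not_dvd_index).symm
      haveI := h C hCp
      have hsurj : Function.Surjective (q.comp C.subtype) := by
        intro y
        obtain ⟨g, rfl⟩ := hq y
        obtain ⟨⟨a, c⟩, hac⟩ := hC.2 g
        refine ⟨c, ?_⟩
        rw [show g = (a : G) * (c : G) from hac.symm, map_mul,
          (QuotientGroup.eq_one_iff (a : G)).2 (hP a.2) |> fun e => show q (a : G) = 1 from e, one_mul]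
        rfl
      exact Group.isSolvable_of_surjective hsurj
    · haveI := hsub _ hn
      have hsurj : Function.Surjective (q.comp (Subgroup.normalizer ((P : Subgroup G) : Set G)).subtype) := by
        intro y
        obtain ⟨g, rfl⟩ := hq y
        obtain ⟨n, hn, hng⟩ := Fusion.frattini_conj (H := ⊤)
          (T := (P : Subgroup G)) (N := N)
          ⟨hP, P.isPGroup', fun hd => P.not_dvd_index (hd.trans (Subgroup.relIndex_dvd_index_of_le hP))⟩
          (by rw [Subgroup.normalizer_eq_top_iff.2 inferInstance]) (Subgroup.mem_top g)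
        refine ⟨⟨n * g, hng⟩, ?_⟩
        show q (n * g) = q g
        rw [map_mul, show q n = 1 from (QuotientGroup.eq_one_iff n).2 hn, one_mul]
      exact Group.isSolvable_of_surjective hsurj
  · refine hind _ hlt fun H hH => ?_
    have hK : H.comap q ≠ ⊤ := fun e => hall (by
      have hHtop : H = ⊤ := by
        rw [← Subgroup.map_comap_eq_self_of_surjective hq H, e, Subgroup.map_top_of_surjective q hq]
      rwa [hHtop, Subgroup.card_top] at hH)
    have := h.image hp (hsub _ hK) q (by rwa [Subgroup.map_comap_eq_self_of_surjective hq H])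
    rwa [Subgroup.map_comap_eq_self_of_surjective hq H] at this

end Cfsg.Agent.PPrimeNilpotent
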