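import Cfsg.Agent.Lib.Solv.PPrimeNilpotent.Count

/-!
# The contradiction from the fixed points of a Sylow `p`-subgroup of the strongly embedded subgroup
-/

set_option autoImplicit false
set_option linter.style.haveILetI false
set_option linter.unusedSectionVars false

namespace Cfsg.Agent.PPrimeNilpotent

open Cfsg Cfsg.Agent.Fusion

universe u

variable {X : Type u} [Group X] [Finite X]

/-- In a solvable group without two commuting distinct involutions all involutions agree modulo the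
odd core. -/
theorem involutions_congr (hs : Group.IsSolvable X)
    (huniq : ∀ a b : X, orderOf a = 2 → orderOf b = 2 → Commute a b → a = b) {a b : X}
    (ha : orderOf a = 2) (hb : orderOf b = 2) :
    (QuotientGroup.mk' (pPrimeCore 2 X)) a = (QuotientGroup.mk' (pPrimeCore 2 X)) b := by
  haveI : Fact (Nat.Prime 2) := ⟨Nat.prime_two⟩
  set K := pPrimeCore 2 X with hK
  haveI : K.Normal := Solv.pPrimeCore_normal 2
  set π := QuotientGroup.mk' K with hπ
  have hsurj : Function.Surjective π := QuotientGroup.mk'_surjective K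
  have h0 : pPrimeCore 2 (X ⧸ K) = ⊥ := Fusion.pPrimeCore_quotient_eq_bot
  obtain ⟨T⟩ : Nonempty (Sylow 2 X) := inferInstance
  set T' : Sylow 2 (X ⧸ K) := T.mapSurjective hsurj with hT'
  have hTinj : ∀ x ∈ (T : Subgroup X), π x = 1 → x = 1 := by
    intro x hx hx1
    have hxK : x ∈ K := (QuotientGroup.eq_one_iff x).1 hx1
    obtain ⟨i, hi⟩ := T.isPGroup' ⟨x, hx⟩
    exact orderOf_eq_one_iff.1 (Nat.eq_one_of_dvd_coprimes
      ((Solv.pPrimeCore_coprime (G := X) 2).pow_right i) (Subgroup.orderOf_dvd_natCard K hxK)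
      (orderOf_dvd_of_pow_eq_one (congrArg Subtype.val hi)))
  have hTuniq : ∀ v w : X ⧸ K, v ∈ (T' : Subgroup (X ⧸ K)) → w ∈ (T' : Subgroup (X ⧸ K)) →
      orderOf v = 2 → orderOf w = 2 → Commute v w → v = w := by
    intro v w hv hw hvo hwo hvw
    rw [hT', Sylow.coe_mapSurjective] at hv hw
    obtain ⟨x, hx, rfl⟩ := hv
    obtain ⟨y, hy, rfl⟩ := hw
    have hord : ∀ z ∈ (T : Subgroup X), orderOf (π z) = 2 → orderOf z = 2 := by
      intro z hz hzo
      refine orderOf_eq_prime ?_ fun e => ?_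
      · exact hTinj _ (pow_mem hz 2) (by rw [map_pow, ← hzo, pow_orderOf_eq_one])
      · rw [e, map_one, orderOf_one] at hzo; omega
    refine congrArg π (huniq x y (hord x hx hvo) (hord y hy hwo) ?_)
    have h1 := hTinj ((y * x)⁻¹ * (x * y))
      (mul_mem (inv_mem (mul_mem hy hx)) (mul_mem hx hy))
      (by rw [map_mul, map_inv, map_mul, map_mul, ← hvw.eq, inv_mul_cancel])
    exact (inv_mul_eq_one.1 h1).symm
  set Q := pCore 2 (X ⧸ K) with hQ
  have hQn : Q.Normal := Solv.pCore_normal 2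
  have hQT : Q ≤ (T' : Subgroup (X ⧸ K)) := Fusion.pCore_le_sylow T'
  have hinv : ∀ x : X, orderOf x = 2 → orderOf (π x) = 2 := by
    intro x hx
    refine orderOf_eq_prime (by rw [← map_pow, ← hx, pow_orderOf_eq_one, map_one]) fun e => ?_
    have h2 := Subgroup.orderOf_dvd_natCard K ((QuotientGroup.eq_one_iff x).1 e)
    rw [hx] at h2
    exact Nat.prime_two.coprime_iff_not_dvd.1 (Solv.pPrimeCore_coprime (G := X) 2).symm h2
  have hQ1 : Q ≠ ⊥ := by
    intro e
    have h := centralizer_pCore_le_of_solvable (p := 2) (G := X ⧸ K) inferInstance h0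
    rw [← hQ, e] at h
    have h1 : π a ∈ (⊥ : Subgroup (X ⧸ K)) := h (Subgroup.mem_centralizer_iff.2 fun q hq => by
      rw [Subgroup.coe_bot, Set.mem_singleton_iff] at hq
      rw [hq, one_mul, mul_one])
    have := hinv a ha
    rw [Subgroup.mem_bot.1 h1, orderOf_one] at this
    omega
  obtain ⟨z, hz⟩ := exists_prime_orderOf_dvd_card' (G := ↥Q) 2 (by
    obtain ⟨i, hi⟩ := IsPGroup.iff_card.1 (Solv.pCore_isPGroup (G := X ⧸ K) 2)
    rw [hi]
    refine dvd_pow_self 2 fun hi0 => hQ1 (Subgroup.eq_bot_of_card_eq _ ?_)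
    rw [hi, hi0, pow_zero])
  rw [← Subgroup.orderOf_coe] at hz
  have key : ∀ x : X ⧸ K, orderOf x = 2 → x = (z : X ⧸ K) := by
    intro x hx
    obtain ⟨g, -, hg⟩ := (sylIn_top T').conj_le (Q := Subgroup.zpowers x)
      (IsPGroup.of_card (n := 1) (by rw [Nat.card_zpowers, hx, pow_one])) le_top
    have hgx : g * x * g⁻¹ ∈ (T' : Subgroup (X ⧸ K)) := hg ⟨x, Subgroup.mem_zpowers x, rfl⟩
    have hgxo := SEPairs.conj_involution hx g
    have hzQ : (g * x * g⁻¹) * (z : X ⧸ K) * (g * x * g⁻¹)⁻¹ ∈ Q := hQn.conj_mem _ z.2 _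
    have hne : (T' : Subgroup (X ⧸ K)) ≠ ⊥ := fun e => by
      have := Subgroup.mem_bot.1 (e ▸ hQT z.2)
      rw [this, orderOf_one] at hz
      omega
    haveI : Nontrivial ↥(T' : Subgroup (X ⧸ K)) := (Subgroup.nontrivial_iff_ne_bot _).2 hne
    haveI := T'.isPGroup'.center_nontrivial
    obtain ⟨w, hw⟩ := exists_prime_orderOf_dvd_card' (G := ↥(Subgroup.center ↥(T' : Subgroup (X ⧸ K)))) 2 (by
      obtain ⟨i, hi⟩ := IsPGroup.iff_card.1 (T'.isPGroup'.to_subgroup (Subgroup.center ↥(T' : Subgroup (X ⧸ K))))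
      rw [hi]
      refine dvd_pow_self 2 fun hi0 => ?_
      rw [hi0, pow_zero] at hi
      exact absurd (Nat.card_eq_one_iff_unique.1 hi).1 (not_subsingleton _))
    rw [← Subgroup.orderOf_coe, ← Subgroup.orderOf_coe] at hw
    have hwc : ∀ v ∈ (T' : Subgroup (X ⧸ K)), orderOf v = 2 →
        v = ((w : ↥(T' : Subgroup (X ⧸ K))) : X ⧸ K) := fun v hv hvo =>
      hTuniq v _ hv (w : ↥(T' : Subgroup (X ⧸ K))).2 hvo hw
        (congrArg Subtype.val (Subgroup.mem_center_iff.1 w.2 ⟨v, hv⟩))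
    have h1 : g * x * g⁻¹ = (z : X ⧸ K) := (hwc _ hgx hgxo).trans (hwc _ (hQT z.2) hz).symm
    have h2 : g⁻¹ * (z : X ⧸ K) * g⁻¹⁻¹ = (z : X ⧸ K) :=
      (hwc _ (hQT (hQn.conj_mem _ z.2 _)) (SEPairs.conj_involution hz _)).trans (hwc _ (hQT z.2) hz).symm
    rw [← h2, ← h1]
    group
  exact (key _ (hinv a ha)).trans (key _ (hinv b hb)).symm

variable {G : Type u} [Group G] [Finite G] {p : ℕ} {S E : Subgroup G}

/-- There is no minimal counterexample. -/
theorem Ctx.contradiction (c : Ctx p G) (hc : Closed S E) (h8 : 8 ≤ Nat.card ↥E) : False := by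
  classical
  haveI : Fact p.Prime := ⟨c.prime⟩
  haveI : Fact (Nat.Prime 2) := ⟨Nat.prime_two⟩
  set M := local2 E with hM
  have hse := c.local2_embedded hc h8
  set a : G ⧸ M := QuotientGroup.mk 1 with ha
  obtain ⟨Q, hQ⟩ := exists_sylIn (p := p) M
  have hQa : ∀ q ∈ Q, q • a = a := fun q hq =>
    SEPairs.smul_mk_eq_iff.2 (by simpa using hQ.le hq)
  obtain ⟨t, x, ht, htx⟩ := SEPairs.exists_fixed_involution hse
  obtain ⟨gx, hgx⟩ := MulAction.exists_smul_eq G x a
  have hta : ∃ t₁ : G, orderOf t₁ = 2 ∧ t₁ • a = a :=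
    ⟨gx * t * gx⁻¹, SEPairs.conj_involution ht gx, by
      rw [← hgx, mul_smul, mul_smul, inv_smul_smul, htx]⟩
  obtain ⟨t₁, ht₁, ht₁a⟩ := hta
  have hQ1 : Q ≠ ⊥ := by
    intro e
    refine c.no_normalizing hc h8 hQ ht₁ (by simpa using SEPairs.smul_mk_eq_iff.1 ht₁a) ?_
    rw [e, mem_normalizer_iff_cj, cj_bot]
  have hQtop : Q ≠ ⊤ := fun e => hse.1 (top_le_iff.1 (e ▸ hQ.le))
  set N := Subgroup.normalizer (Q : Set G) with hN
  have hNs : Group.IsSolvable ↥N := c.sub N (c.normalizer_ne_top hQ1 hQtop)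
  set F : Set (G ⧸ M) := {z | ∀ q ∈ Q, q • z = z} with hF
  have hsylc : ∀ (g : G), (g • a : G ⧸ M) ∈ F → SylIn p (cj Q g⁻¹) M := by
    intro g hg
    have hle : cj Q g⁻¹ ≤ M := by
      rintro _ ⟨q, hq, rfl⟩
      have := hg q hq
      rw [ha, MulAction.Quotient.smul_mk, smul_eq_mul, mul_one] at this
      have h1 := SEPairs.smul_mk_eq_iff.1 this
      show g⁻¹ * q * g⁻¹⁻¹ ∈ M
      rwa [inv_inv]
    exact hQ.of_card_ge (isPGroup_cj hQ.isPGroup _) hle (by rw [card_cj])
  have hfix_b : ∀ z ∈ F, ∀ u : G, orderOf u = 2 → u ∈ N → u • z ≠ z := by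
    intro z hz u hu huN huz
    obtain ⟨g, rfl⟩ := MulAction.exists_smul_eq G a z
    refine c.no_normalizing hc h8 (hsylc g hz) (u := g⁻¹ * u * g) ?_ ?_ ?_
    · have := SEPairs.conj_involution hu g⁻¹; rwa [inv_inv] at this
    · rw [ha, MulAction.Quotient.smul_mk, MulAction.Quotient.smul_mk] at huz
      have h1 := QuotientGroup.eq.1 huz
      simp only [smul_eq_mul, mul_one, mul_inv_rev] at h1
      rw [SEPairs.inv_self hu] at h1
      exact h1
    · rw [mem_normalizer_iff_cj, cj_cj, mul_inv_cancel_right, ← cj_cj, mem_normalizer_iff_cj.1 huN]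
  have hNF : ∀ v ∈ N, ∀ z ∈ F, v • z ∈ F := by
    intro v hv z hz q hq
    have h1 : v⁻¹ * q * v ∈ Q := by
      have := (Subgroup.mem_normalizer_iff.1 (inv_mem hv) q).1 hq
      rwa [inv_inv] at this
    have h2 := hz _ h1
    rw [mul_smul, mul_smul, inv_smul_eq_iff] at h2
    exact h2
  have hswap : ∀ z ∈ F, ∀ w ∈ F, z ≠ w → ∃ v ∈ N, orderOf v = 2 ∧ v • z = w := by
    intro z hz w hw hzw
    have hne : Nonempty {i : G // orderOf i = 2 ∧ i • z = w} := by
      have h := SEPairs.card_swappers hse hzw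
      rw [card_fix_eq hse z a] at h
      haveI : Nonempty {i : G // orderOf i = 2 ∧ i • a = a} := ⟨⟨t₁, ht₁, ht₁a⟩⟩
      exact Nat.card_pos_iff.1 (h ▸ Nat.card_pos) |>.1
    obtain ⟨⟨u, hu, huz⟩⟩ := hne
    have huw : u • w = z := by rw [← huz, smul_smul, SEPairs.sq_one hu, one_smul]
    set D := MulAction.stabilizer G z ⊓ MulAction.stabilizer G w with hD
    have hQD : Q ≤ D := fun q hq => ⟨hz q hq, hw q hq⟩
    obtain ⟨g, rfl⟩ := MulAction.exists_smul_eq G a z
    have hQz : SylIn p Q (MulAction.stabilizer G (g • a)) := by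
      have h1 := (hsylc g hz).cj g
      rw [cj_inv_cj] at h1
      refine h1.mono (fun q hq => hz q hq) ?_
      intro x hx
      rw [MulAction.mem_stabilizer_iff, ha, MulAction.Quotient.smul_mk, smul_eq_mul, mul_one,
        SEPairs.smul_mk_eq_iff] at hx
      exact Fusion.mem_cj.2 hx
    have hQD' : SylIn p Q D := hQz.mono hQD inf_le_left
    have hun : u ∈ Subgroup.normalizer (D : Set G) := mem_normalizer_of_cj_le (by
      rintro _ ⟨x, hx, rfl⟩
      show u * x * u⁻¹ ∈ D
      rw [SEPairs.inv_self hu]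
      refine ⟨MulAction.mem_stabilizer_iff.2 ?_, MulAction.mem_stabilizer_iff.2 ?_⟩
      · rw [mul_smul, mul_smul, huz, show x • w = w from hx.2, huw]
      · rw [mul_smul, mul_smul, huw, show x • (g • a) = g • a from hx.1, huz])
    obtain ⟨d, hd, hdu⟩ := frattini_conj (H := Subgroup.zpowers u) hQD' (Subgroup.zpowers_le.2 hun)
      (Subgroup.mem_zpowers u)
    set r := d * u with hr
    have hr1 : r • (g • a) = w := by rw [hr, mul_smul, huz]; exact hd.2
    have hr2 : r • w = g • a := by rw [hr, mul_smul, huw]; exact hd.1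
    have heven : ∀ j : ℕ, Even j → r ^ j • (g • a) = g • a := by
      rintro j ⟨i, rfl⟩
      induction i with
      | zero => simp
      | succ i ih =>
        rw [show i + 1 + (i + 1) = i + i + 1 + 1 by omega, pow_succ, mul_smul, hr1, pow_succ, mul_smul, hr2]
        exact ih
    have hodd' : ∀ j : ℕ, Odd j → r ^ j • (g • a) = w := by
      intro j hj
      obtain ⟨i, rfl⟩ := hj
      rw [pow_succ', mul_smul, heven _ (even_two_mul i), hr1]
    obtain ⟨k, m, hm, hkm⟩ := Nat.exists_eq_two_pow_mul_odd (orderOf_pos r).ne'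
    have hk : k ≠ 0 := by
      intro hk0
      rw [hk0, pow_zero, one_mul] at hkm
      have := hodd' _ (hkm.symm ▸ hm)
      rw [pow_orderOf_eq_one, one_smul] at this
      exact hzw this
    set v := r ^ m with hv
    have hv1 : v • (g • a) = w := hodd' m hm
    refine ⟨v, pow_mem hdu m, ?_, hv1⟩
    refine orderOf_eq_prime ?_ fun e => hzw (by rw [← hv1, e, one_smul])
    have hv2 : v ^ 2 • (g • a) = g • a ∧ v ^ 2 • w = w := by
      refine ⟨by rw [hv, ← pow_mul]; exact heven _ (Even.mul_left even_two m), ?_⟩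
      have h1 := hodd' (m * 2 + 1) ⟨m, by omega⟩
      rw [pow_succ, mul_smul, hr1, pow_mul, ← hv] at h1
      exact h1
    by_contra hv2ne
    have hvk : (v ^ 2) ^ 2 ^ k = 1 := by
      rw [← pow_mul, hv, ← pow_mul, show m * (2 * 2 ^ k) = (2 ^ k * m) * 2 by ring, ← hkm, pow_mul,
        pow_orderOf_eq_one, one_pow]
    have h2 : 2 ∣ orderOf (v ^ 2) := by
      obtain ⟨i, -, hi⟩ := (Nat.dvd_prime_pow Nat.prime_two).1 (orderOf_dvd_of_pow_eq_one hvk)
      rw [hi]
      refine dvd_pow_self 2 fun hi0 => hv2ne ?_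
      rw [hi0, pow_zero, orderOf_eq_one_iff] at hi
      exact hi
    obtain ⟨j, hj⟩ := h2
    have hj0 : j ≠ 0 := fun e => (orderOf_pos (v ^ 2)).ne' (by rw [hj, e, mul_zero])
    have hio : orderOf ((v ^ 2) ^ j) = 2 := by
      rw [orderOf_pow_of_dvd hj0 (Dvd.intro_left 2 hj.symm), hj, Nat.mul_div_cancel _ (Nat.pos_of_ne_zero hj0)]
    refine hzw (SEPairs.fixed_unique hse hio ?_ ?_)
    · exact MulAction.mem_stabilizer_iff.1 (pow_mem (MulAction.mem_stabilizer_iff.2 hv2.1) j)
    · exact MulAction.mem_stabilizer_iff.1 (pow_mem (MulAction.mem_stabilizer_iff.2 hv2.2) j)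
  have huniq : ∀ b₁ b₂ : ↥N, orderOf b₁ = 2 → orderOf b₂ = 2 → Commute b₁ b₂ → b₁ = b₂ := by
    intro b₁ b₂ hb₁ hb₂ hcomm
    by_contra hne
    rw [← Subgroup.orderOf_coe] at hb₁ hb₂
    have hc' : (b₁ : G) * b₂ = b₂ * b₁ := congrArg Subtype.val hcomm.eq
    obtain ⟨z, hz⟩ := SEPairs.exists_fixed hse hb₁
    have hz2 : (b₂ : G) • z = z := SEPairs.fixed_unique hse hb₁
      (by rw [smul_smul, hc', ← smul_smul, hz]) hz
    let A : Subgroup G :=
      { carrier := {1, (b₁ : G), (b₂ : G), (b₁ : G) * b₂}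
        one_mem' := by simp
        mul_mem' := by
          have h1 := SEPairs.sq_one hb₁
          have h2 := SEPairs.sq_one hb₂
          have h3 : ∀ v, (b₁ : G) * (b₁ * v) = v := fun v => by rw [← mul_assoc, h1, one_mul]
          have h5 : ∀ v, (b₂ : G) * (b₁ * v) = b₁ * (b₂ * v) := fun v => by
            rw [← mul_assoc, ← hc', mul_assoc]
          intro x y hx hy
          simp only [Set.mem_insert_iff, Set.mem_singleton_iff] at hx hy ⊢
          rcases hx with rfl | rfl | rfl | rfl <;> rcases hy with rfl | rfl | rfl | rfl <;>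
            simp [mul_assoc, h1, h2, h3, h5, ← hc']
        inv_mem' := by
          intro x hx
          simp only [Set.mem_insert_iff, Set.mem_singleton_iff] at hx ⊢
          rcases hx with rfl | rfl | rfl | rfl <;>
            simp [SEPairs.inv_self hb₁, SEPairs.inv_self hb₂, ← hc'] }
    have hAmem : ∀ x ∈ A, x = 1 ∨ x = (b₁ : G) ∨ x = (b₂ : G) ∨ x = (b₁ : G) * b₂ := fun x hx => hx
    have hAcomm : IsMulCommutative A := ⟨⟨fun x y => Subtype.ext (by
      have hc12 : Commute (b₁ : G) b₂ := hc'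
      have key : ∀ v ∈ A, Commute v (b₁ : G) ∧ Commute v (b₂ : G) := by
        intro v hv
        rcases hAmem v hv with rfl | rfl | rfl | rfl
        exacts [⟨Commute.one_left _, Commute.one_left _⟩, ⟨Commute.refl _, hc12⟩,
          ⟨hc12.symm, Commute.refl _⟩,
          ⟨(Commute.refl _).mul_left hc12.symm, hc12.mul_left (Commute.refl _)⟩]
      show (x : G) * y = y * x
      rcases hAmem y y.2 with e | e | e | e <;> rw [e]
      exacts [(Commute.one_right _).eq, (key x x.2).1.eq, (key x x.2).2.eq,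
        ((key x x.2).1.mul_right (key x x.2).2).eq])⟩⟩
    have hAsq : ∀ x ∈ A, x * x = 1 := by
      intro x hx
      rcases hAmem x hx with rfl | rfl | rfl | rfl
      · rw [mul_one]
      · exact SEPairs.sq_one hb₁
      · exact SEPairs.sq_one hb₂
      · calc (b₁ : G) * b₂ * (b₁ * b₂) = b₁ * (b₂ * b₁) * b₂ := by group
          _ = b₁ * (b₁ * b₂) * b₂ := by rw [hc']
          _ = (b₁ * b₁) * (b₂ * b₂) := by group
          _ = 1 := by rw [SEPairs.sq_one hb₁, SEPairs.sq_one hb₂, one_mul]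
    have hAN : A ≤ N := by
      intro x hx
      rcases hAmem x hx with rfl | rfl | rfl | rfl
      exacts [N.one_mem, b₁.2, b₂.2, mul_mem b₁.2 b₂.2]
    have hAz : ∀ x ∈ A, x • z = z := by
      intro x hx
      rcases hAmem x hx with rfl | rfl | rfl | rfl
      exacts [one_smul _ _, hz, hz2, by rw [mul_smul, hz2, hz]]
    have hco : (Nat.card ↥A).Coprime (Nat.card ↥Q) := by
      have hA2 : IsPGroup 2 ↥A := fun x => ⟨1, Subtype.ext (by
        show (x : G) ^ 2 ^ 1 = 1; rw [pow_one, pow_two]; exact hAsq x x.2)⟩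
      obtain ⟨i, hi⟩ := IsPGroup.iff_card.1 hQ.isPGroup
      rw [hi]
      exact (c.coprime_of_two hA2).pow_right i
    have hQz : Q ≤ MulAction.stabilizer G z := by
      refine (Solv.gen_eq A Q hAcomm hAN hco).ge.trans (iSup₂_le fun B hB => ?_)
      obtain ⟨hBA, w, hw, hBw⟩ := hB
      have hB1 : B ≠ ⊥ := by
        intro e
        rw [e, bot_sup_eq] at hBw
        have hb1m : (b₁ : G) ∈ Subgroup.zpowers w := by rw [hBw]; exact Or.inr (Or.inl rfl)
        have hb2m : (b₂ : G) ∈ Subgroup.zpowers w := by rw [hBw]; exact Or.inr (Or.inr (Or.inl rfl))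
        have hcases : ∀ v ∈ Subgroup.zpowers w, v = 1 ∨ v = w := by
          intro v hv
          obtain ⟨i, rfl⟩ := Subgroup.mem_zpowers_iff.1 hv
          rcases Int.even_or_odd' i with ⟨j, rfl | rfl⟩
          · left; rw [zpow_mul, zpow_two, hAsq w hw, one_zpow]
          · right; rw [zpow_add, zpow_mul, zpow_two, hAsq w hw, one_zpow, zpow_one, one_mul]
        have h1 : (b₁ : G) ≠ 1 := fun e' => by rw [e', orderOf_one] at hb₁; omega
        have h2 : (b₂ : G) ≠ 1 := fun e' => by rw [e', orderOf_one] at hb₂; omega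
        exact hne (Subtype.ext (((hcases _ hb1m).resolve_left h1).trans ((hcases _ hb2m).resolve_left h2).symm))
      obtain ⟨⟨b, hb⟩, hb1⟩ := Subgroup.ne_bot_iff_exists_ne_one.1 hB1
      intro q hq
      have hbq : b * q = q * b := Subgroup.mem_centralizer_iff.1 hq.2 b hb
      have hbo : orderOf b = 2 :=
        orderOf_eq_prime (by rw [pow_two]; exact hAsq b (hBA hb)) fun e => hb1 (Subtype.ext e)
      exact SEPairs.fixed_unique hse hbo (by rw [smul_smul, hbq, ← smul_smul, hAz b (hBA hb)])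
        (hAz b (hBA hb))
    exact hfix_b z (fun q hq => hQz hq) b₁ hb₁ b₁.2 hz
  set R := core2 N with hR
  have hRodd : Odd (Nat.card ↥R) := Nat.coprime_two_right.1 (core2_odd N)
  have hRF : ∀ r ∈ R, ∀ z ∈ F, r • z = z := by
    intro r hr z hz
    by_contra hne
    obtain ⟨v, hv, hvo, hvz⟩ := hswap z hz _ (hNF r (core2_le N hr) z hz) (Ne.symm hne)
    let O := MulAction.orbit ↥R z
    have hOv : ∀ w, w ∈ O → v • w ∈ O := by
      rintro _ ⟨⟨s, hs⟩, rfl⟩
      refine ⟨⟨v * s * v⁻¹ * r, mul_mem ((Subgroup.mem_normalizer_iff.1 (core2_normalized N hv) s).1 hs) hr⟩, ?_⟩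
      show (v * s * v⁻¹ * r) • z = v • s • z
      rw [mul_smul, mul_smul, mul_smul, ← hvz, inv_smul_smul]
    have hOodd : ¬ 2 ∣ Nat.card O := by
      intro hd
      have hcard : Nat.card O ∣ Nat.card ↥R := by
        rw [Nat.card_congr (MulAction.orbitEquivQuotientStabilizer ↥R z)]
        exact Subgroup.index_dvd_card _
      exact Nat.not_even_iff_odd.2 hRodd (even_iff_two_dvd.2 (hd.trans hcard))
    let σ : Equiv.Perm O :=
      { toFun := fun w => ⟨v • (w : G ⧸ M), hOv _ w.2⟩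
        invFun := fun w => ⟨v • (w : G ⧸ M), hOv _ w.2⟩
        left_inv := fun w => Subtype.ext (by show v • v • (w : G ⧸ M) = w; rw [smul_smul, SEPairs.sq_one hvo, one_smul])
        right_inv := fun w => Subtype.ext (by show v • v • (w : G ⧸ M) = w; rw [smul_smul, SEPairs.sq_one hvo, one_smul]) }
    have hσ : σ ^ 2 ^ 1 = 1 := by
      rw [pow_one, pow_two]
      refine Equiv.ext fun w => Subtype.ext ?_
      show v • v • (w : G ⧸ M) = w
      rw [smul_smul, SEPairs.sq_one hvo, one_smul]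
    haveI := Fintype.ofFinite O
    rw [Nat.card_eq_fintype_card] at hOodd
    obtain ⟨⟨w, ⟨s, hs⟩, hsw⟩, hw⟩ := Equiv.Perm.exists_fixed_point_of_prime (p := 2) (n := 1) hOodd hσ
    refine hfix_b w ?_ v hvo hv (congrArg Subtype.val hw)
    rw [← hsw]
    exact hNF s (core2_le N hs) z hz
  have haF : a ∈ F := hQa
  have hcard : p ∣ Nat.card F := by
    have h1 := hQ.isPGroup.card_modEq_card_fixedPoints (G ⧸ M)
    have h2 : Nat.card (MulAction.fixedPoints ↥Q (G ⧸ M)) = Nat.card F :=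
      Nat.card_congr (Equiv.subtypeEquivRight fun z => ⟨fun h q hq => h ⟨q, hq⟩, fun h q => h q q.2⟩)
    rw [h2] at h1
    exact (Nat.modEq_zero_iff_dvd.1 (h1.symm.trans (Nat.modEq_zero_iff_dvd.2 (c.dvd_index hc h8))))
  have hthree : ∃ d ∈ F, ∃ e ∈ F, d ≠ a ∧ e ≠ a ∧ d ≠ e := by
    haveI : Nonempty F := ⟨⟨a, haF⟩⟩
    have hp5 := Nat.le_of_dvd Nat.card_pos hcard
    have h3 := c.gt
    by_contra hno
    push Not at hno
    by_cases hd : ∃ d ∈ F, d ≠ a
    · obtain ⟨d, hd, hda⟩ := hd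
      have hsub : F ⊆ {a, d} := by
        intro e he
        by_cases hea : e = a
        · exact Or.inl hea
        · exact Or.inr (hno d hd e he hda hea).symm
      have := Nat.card_mono (Set.toFinite ({a, d} : Set (G ⧸ M))) hsub
      have h2 : Nat.card ({a, d} : Set (G ⧸ M)) ≤ 2 := by
        rw [Nat.card_coe_set_eq]
        exact (Set.ncard_insert_le _ _).trans (by rw [Set.ncard_singleton])
      omega
    · push Not at hd
      have := Nat.card_mono (Set.toFinite ({a} : Set (G ⧸ M))) (fun e he => hd e he : F ⊆ {a})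
      rw [Nat.card_coe_set_eq {a}, Set.ncard_singleton] at this
      omega
  obtain ⟨d, hd, e, he, hda, hea, hde⟩ := hthree
  obtain ⟨v₁, hv₁, hv₁o, hv₁a⟩ := hswap a haF d hd (Ne.symm hda)
  obtain ⟨v₂, hv₂, hv₂o, hv₂a⟩ := hswap a haF e he (Ne.symm hea)
  have h1 := involutions_congr hNs huniq (a := (⟨v₁, hv₁⟩ : ↥N)) (b := ⟨v₂, hv₂⟩)
    (by rw [Subgroup.orderOf_mk]; exact hv₁o) (by rw [Subgroup.orderOf_mk]; exact hv₂o)
  have h2 : v₁⁻¹ * v₂ ∈ R := ⟨_, QuotientGroup.eq.1 h1, rfl⟩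
  have h3 := hRF _ h2 a haF
  rw [mul_smul, hv₂a, inv_smul_eq_iff, hv₁a] at h3
  exact hde h3.symm

end Cfsg.Agent.PPrimeNilpotent
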