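import Cfsg.Agent.Lib.Solv.PPrimeNilpotent.Final

/-!
# A group all whose `p'`-subgroups are nilpotent is solvable, for `p > 3`
-/

set_option autoImplicit false

namespace Cfsg.Agent.PPrimeNilpotent

open Cfsg

universe u

theorem solvable_aux {p : ℕ} (hp : p.Prime) (hp3 : 3 < p) :
    ∀ (n : ℕ) (G : Type u) [Group G] [Finite G], Nat.card G = n → Hyp p G → Group.IsSolvable G := by
  intro n
  induction n using Nat.strong_induction_on with
  | _ n ih =>
    intro G _ _ hcard h
    by_contra hns
    have hsub : ∀ H : Subgroup G, H ≠ ⊤ → Group.IsSolvable ↥H := fun H hH => by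
      refine ih _ ?_ ↥H rfl (h.subgroup H)
      rw [← hcard]
      exact lt_of_le_of_ne H.card_le_card_group fun e => hH (H.eq_top_of_card_eq e)
    have hind : ∀ (X : Type u) [Group X] [Finite X], Nat.card X < Nat.card G → Hyp p X →
        Group.IsSolvable X := fun X _ _ hlt hX => ih _ (hcard ▸ hlt) X rfl hX
    have c : Ctx p G := ⟨hp, hp3, h, hsub, fun N hN => by
      by_contra hne
      obtain ⟨h1, h2⟩ := not_or.1 hne
      exact hns (solvable_of_normal h hp hsub hind N h1 h2), hns⟩
    obtain ⟨S, E, hc, hE⟩ := c.exists_closed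
    exact c.contradiction hc (c.closed_card hc hE)

end Cfsg.Agent.PPrimeNilpotent
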