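import Cfsg.Agent.Lib.Solv.PPrimeNilpotent.Embedded

/-!
# No involution normalises a Sylow `p`-subgroup of the strongly embedded subgroup
-/

set_option autoImplicit false
set_option linter.style.haveILetI false
set_option linter.unusedSectionVars false

namespace Cfsg.Agent.PPrimeNilpotent

open Cfsg Cfsg.Agent.Fusion

universe u

variable {X : Type u} [Group X] [Finite X] {p : ℕ}

/-- In a group all whose `p'`-subgroups are nilpotent, a normal elementary abelian 2-subgroup of
order at least four with transitive conjugation has no element normalising a Sylow `p`-subgroup. -/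
theorem no_transitive_normal (hp : p.Prime) (hp3 : 3 < p) (h : Hyp p X) {E : Subgroup X} [hEn : E.Normal]
    (hsq : ∀ a ∈ E, a * a = 1)
    (h4 : 4 ≤ Nat.card ↥E) (htr : ∀ a ∈ E, a ≠ 1 → ∀ b ∈ E, b ≠ 1 → ∃ g : X, g * a * g⁻¹ = b)
    (Q : Sylow p X) {e : X} (he : e ∈ E) (he1 : e ≠ 1)
    (heQ : e ∈ Subgroup.normalizer ((Q : Subgroup X) : Set X)) : False := by
  classical
  haveI : Fact p.Prime := ⟨hp⟩
  haveI : Fact (Nat.Prime 2) := ⟨Nat.prime_two⟩
  have hE2 : IsPGroup 2 ↥E := fun a => ⟨1, Subtype.ext (by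
    show (a : X) ^ 2 ^ 1 = 1
    rw [pow_one, pow_two]; exact hsq a a.2)⟩
  obtain ⟨k, hk⟩ := IsPGroup.iff_card.1 hE2
  have hEp : (Nat.card ↥E).Coprime p := by
    rw [hk]; exact ((Nat.coprime_primes Nat.prime_two hp).2 (by omega)).pow_left k
  set C := Subgroup.centralizer ({e} : Set X) with hC
  have hidx : C.index = Nat.card ↥E - 1 := by
    let f : X ⧸ C → {a : ↥E // a ≠ 1} := fun q => Quotient.liftOn' q
      (fun g => ⟨⟨g * e * g⁻¹, hEn.conj_mem e he g⟩,
        fun h0 => he1 (conj_eq_one_iff.1 (congrArg Subtype.val h0))⟩)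
      (fun a b hab => by
        rw [QuotientGroup.leftRel_apply, hC, Subgroup.mem_centralizer_singleton_iff] at hab
        refine Subtype.ext (Subtype.ext ?_)
        show a * e * a⁻¹ = b * e * b⁻¹
        calc a * e * a⁻¹ = a * (e * (a⁻¹ * b)) * b⁻¹ := by group
          _ = a * (a⁻¹ * b * e) * b⁻¹ := by rw [hab]
          _ = b * e * b⁻¹ := by group)
    have hinj : Function.Injective f := by
      rintro q r hqr
      induction q using Quotient.inductionOn' with
      | h a =>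
        induction r using Quotient.inductionOn' with
        | h b =>
          have e' : a * e * a⁻¹ = b * e * b⁻¹ :=
            congrArg (fun v : {a : ↥E // a ≠ 1} => ((v : ↥E) : X)) hqr
          refine Quotient.sound' ?_
          rw [QuotientGroup.leftRel_apply, hC, Subgroup.mem_centralizer_singleton_iff]
          calc a⁻¹ * b * e = a⁻¹ * (b * e * b⁻¹) * b := by group
            _ = a⁻¹ * (a * e * a⁻¹) * b := by rw [e']
            _ = e * (a⁻¹ * b) := by group
    have hsurj : Function.Surjective f := by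
      rintro ⟨⟨b, hb⟩, hb1⟩
      obtain ⟨g, hg⟩ := htr e he he1 b hb fun h0 => hb1 (Subtype.ext h0)
      exact ⟨QuotientGroup.mk g, Subtype.ext (Subtype.ext hg)⟩
    haveI := Fintype.ofFinite ↥E
    rw [Subgroup.index, Nat.card_eq_of_bijective f ⟨hinj, hsurj⟩, Nat.card_eq_fintype_card,
      Nat.card_eq_fintype_card, Fintype.card_subtype_compl, Fintype.card_subtype_eq]
  obtain ⟨r, hr, hrd⟩ := Nat.exists_prime_and_dvd (n := C.index) (by omega)
  haveI : Fact r.Prime := ⟨hr⟩
  by_cases hr2 : r = 2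
  · subst hr2
    rw [hidx] at hrd
    have : 2 ∣ Nat.card ↥E := by
      rw [hk] at h4 ⊢
      exact dvd_pow_self 2 fun h0 => by rw [h0] at h4; norm_num at h4
    omega
  by_cases hrp : r = p
  · subst hrp
    refine Q.not_dvd_index (hrd.trans (Subgroup.index_dvd_of_le fun q hq => ?_))
    refine Subgroup.mem_centralizer_singleton_iff.2 ?_
    have h1 : q * e * q⁻¹ * e⁻¹ ∈ E := E.mul_mem (hEn.conj_mem e he q) (E.inv_mem he)
    have h2 : q * e * q⁻¹ * e⁻¹ ∈ (Q : Subgroup X) := by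
      rw [show q * e * q⁻¹ * e⁻¹ = q * (e * q⁻¹ * e⁻¹) by group]
      exact mul_mem hq ((Subgroup.mem_normalizer_iff.1 heQ q⁻¹).1 (inv_mem hq))
    obtain ⟨i, hi⟩ := Q.isPGroup' ⟨_, h2⟩
    have h3 : q * e * q⁻¹ * e⁻¹ = 1 := orderOf_eq_one_iff.1 (Nat.eq_one_of_dvd_coprimes
      (hEp.pow_right i) (Subgroup.orderOf_dvd_natCard E h1)
      (orderOf_dvd_of_pow_eq_one (congrArg Subtype.val hi)))
    rw [mul_inv_eq_one, mul_inv_eq_iff_eq_mul] at h3
    exact h3
  · obtain ⟨R⟩ : Nonempty (Sylow r X) := inferInstance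
    refine R.not_dvd_index (hrd.trans (Subgroup.index_dvd_of_le fun x hx => ?_))
    refine Subgroup.mem_centralizer_singleton_iff.2 ?_
    obtain ⟨i, hi⟩ := R.isPGroup' ⟨x, hx⟩
    have hd : orderOf x ∣ r ^ i := orderOf_dvd_of_pow_eq_one (congrArg Subtype.val hi)
    refine (h.commute (U := E) ((((Nat.coprime_primes hr hp).2 hrp).pow_left i).coprime_dvd_left hd) hEp
      (Nat.Coprime.coprime_dvd_right hd ?_) (by rw [Subgroup.normalizer_eq_top_iff.2 hEn]; exact Subgroup.mem_top x) he).eq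
    rw [hk]
    exact ((Nat.coprime_primes Nat.prime_two hr).2 (Ne.symm hr2)).pow k i

variable {G : Type u} [Group G] [Finite G] {S E : Subgroup G}

theorem Ctx.involutions_conj_local2 (c : Ctx p G) (hc : Closed S E) (h8 : 8 ≤ Nat.card ↥E) {a b : G}
    (ha : orderOf a = 2) (haM : a ∈ local2 E) (hb : orderOf b = 2) (hbM : b ∈ local2 E) :
    ∃ m ∈ local2 E, m * a * m⁻¹ = b := by
  have hse := c.local2_embedded hc h8
  obtain ⟨y, hy⟩ := SEPairs.exists_ne hse (QuotientGroup.mk 1 : G ⧸ local2 E)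
  obtain ⟨d, hd, -, hdab⟩ := SEPairs.pair_transitive hse hy ha
    (SEPairs.smul_mk_eq_iff.2 (by simpa using haM)) hb (SEPairs.smul_mk_eq_iff.2 (by simpa using hbM))
  exact ⟨d, by simpa using SEPairs.smul_mk_eq_iff.1 hd, hdab⟩

/-- No involution of the strongly embedded subgroup normalises one of its Sylow `p`-subgroups. -/
theorem Ctx.no_normalizing (c : Ctx p G) (hc : Closed S E) (h8 : 8 ≤ Nat.card ↥E) {u : G} {Q : Subgroup G}
    (hQ : SylIn p Q (local2 E)) (hu : orderOf u = 2) (huM : u ∈ local2 E)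
    (hn : u ∈ Subgroup.normalizer (Q : Set G)) : False := by
  haveI : Fact p.Prime := ⟨c.prime⟩
  haveI : Fact (Nat.Prime 2) := ⟨Nat.prime_two⟩
  set M := local2 E with hM
  have hE1 : E ≠ ⊥ := fun h => by rw [h, Subgroup.card_bot] at h8; omega
  obtain ⟨⟨e₀, he₀⟩, he₀1⟩ := Subgroup.ne_bot_iff_exists_ne_one.1 hE1
  have hEM : E ≤ M := hc.le.trans (le_local2 hc)
  have he₀o : orderOf e₀ = 2 :=
    orderOf_eq_prime (by rw [pow_two]; exact hc.sq e₀ he₀) fun h => he₀1 (Subtype.ext h)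
  obtain ⟨m, hm, hme⟩ := c.involutions_conj_local2 hc h8 hu huM he₀o (hEM he₀)
  have hQ' : SylIn p (cj Q m) M := hQ.cj' (Subgroup.le_normalizer hm)
  haveI hMs := c.sub M (c.local2_ne_top hc h8)
  obtain ⟨P, hP⟩ := (hc.syl.mono (le_local2 hc) le_top : SylIn 2 S M).exists_sylow_subgroupOf
  set E' := E.subgroupOf M with hE'
  set K := pPrimeCore 2 ↥M with hK
  have hn' : (E' ⊔ K).Normal := closed_sup_core_normal hMs P
    (by rw [hP]; exact Subgroup.comap_mono hc.le)
    (fun a ha b hb => Subtype.ext (hc.comm _ ha _ hb))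
    (fun g a ha hg => by rw [hP] at hg; exact hc.mem (g := (g : G)) ha hg)
  haveI : K.Normal := Solv.pPrimeCore_normal 2
  set π := QuotientGroup.mk' K with hπ
  have hsurj : Function.Surjective π := QuotientGroup.mk'_surjective K
  haveI hEn : (E'.map π).Normal := by
    have : (E' ⊔ K).map π = E'.map π := by
      rw [Subgroup.map_sup, show K.map π = ⊥ from (Subgroup.map_eq_bot_iff _).2 (by rw [hπ, QuotientGroup.ker_mk'])]
      exact sup_bot_eq _
    exact this ▸ hn'.map π hsurj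
  have hinj : ∀ a ∈ E', ∀ b ∈ E', π a = π b → a = b := by
    intro a ha b hb hab
    have h1 : a⁻¹ * b ∈ K := QuotientGroup.eq.1 hab
    have h2 : (a⁻¹ * b) ^ 2 = 1 := by
      rw [pow_two]; exact Subtype.ext (hc.sq _ (E'.mul_mem (E'.inv_mem ha) hb))
    refine inv_mul_eq_one.1 (orderOf_eq_one_iff.1 (Nat.eq_one_of_dvd_coprimes
      (Solv.pPrimeCore_coprime (G := ↥M) 2) (Subgroup.orderOf_dvd_natCard K h1)
      (orderOf_dvd_of_pow_eq_one h2)))
  have hcard : Nat.card ↥(E'.map π) = Nat.card ↥E := by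
    rw [← Nat.card_congr (Subgroup.subgroupOfEquivOfLe hEM).toEquiv]
    exact (Nat.card_congr (Equiv.ofBijective
      (fun a : ↥E' => (⟨π a, Subgroup.mem_map_of_mem π a.2⟩ : ↥(E'.map π)))
      ⟨fun a b h => Subtype.ext (hinj a a.2 b b.2 (congrArg Subtype.val h)),
        fun ⟨y, v, hv, hy⟩ => ⟨⟨v, hv⟩, Subtype.ext hy⟩⟩)).symm
  have hhyp : Hyp p (↥M ⧸ K) := fun H hH => by
    haveI : Group.IsSolvable ↥(H.comap π) := inferInstance
    have := (c.hyp.subgroup M).image c.prime this π (K := H.comap π)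
      (by rwa [Subgroup.map_comap_eq_self_of_surjective hsurj H])
    rwa [Subgroup.map_comap_eq_self_of_surjective hsurj H] at this
  obtain ⟨R, hR⟩ := hQ'.exists_sylow_subgroupOf
  refine no_transitive_normal c.prime c.gt hhyp (E := E'.map π) ?_ (by rw [hcard]; omega) ?_
    (R.mapSurjective hsurj) (e := π ⟨e₀, hEM he₀⟩) (Subgroup.mem_map_of_mem π he₀) ?_ ?_
  · rintro _ ⟨a, ha, rfl⟩
    rw [← map_mul, show a * a = 1 from Subtype.ext (hc.sq _ ha), map_one]
  · rintro _ ⟨a, ha, rfl⟩ ha1 _ ⟨b, hb, rfl⟩ hb1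
    have inv_of : ∀ v ∈ E', π v ≠ 1 → orderOf (v : G) = 2 := fun v hv hv1 =>
      orderOf_eq_prime (by rw [pow_two]; exact hc.sq _ hv) fun h0 => hv1 (by
        rw [show v = 1 from Subtype.ext h0, map_one])
    obtain ⟨g, hg, hgab⟩ := c.involutions_conj_local2 hc h8 (inv_of a ha ha1) a.2 (inv_of b hb hb1) b.2
    refine ⟨π ⟨g, hg⟩, ?_⟩
    rw [← map_inv, ← map_mul, ← map_mul]
    exact congrArg π (Subtype.ext hgab)
  · intro h0
    have := hinj ⟨e₀, hEM he₀⟩ he₀ 1 E'.one_mem (by rw [h0, map_one])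
    exact he₀1 (Subtype.ext (congrArg (fun v : ↥M => (v : G)) this))
  · have h1 : e₀ ∈ Subgroup.normalizer ((cj Q m : Subgroup G) : Set G) := by
      rw [mem_normalizer_iff_cj, cj_cj, ← hme, inv_mul_cancel_right, ← cj_cj,
        mem_normalizer_iff_cj.1 hn]
    have h2 : (⟨e₀, hEM he₀⟩ : ↥M) ∈ Subgroup.normalizer ((R : Subgroup ↥M) : Set ↥M) := by
      rw [hR, ← Subgroup.subgroupOf_normalizer_eq hQ'.le]
      exact h1
    rw [Sylow.coe_mapSurjective]
    exact Subgroup.le_normalizer_map π (Subgroup.mem_map_of_mem π h2)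

end Cfsg.Agent.PPrimeNilpotent
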